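import Groth.Agent.PullFlat.SliceSite
import Groth.Agent.ModPerm.SliceFree
import Groth.Agent.ModSiteTensor.Basic
import Groth.Agent.ModSiteFlat.LocalFactor

/-!
The inverse image along a morphism of ringed sites commutes with restriction to slices.
-/

set_option backward.isDefEq.respectTransparency false
set_option backward.isDefEq.respectTransparency.types false
set_option autoImplicit false
set_option maxHeartbeats 800000

universe u

namespace Groth.Agent.PullFlat

open CategoryTheory Limits Opposite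
open Groth.Agent.ModPerm (FY gen Fam famOf bijective_famOf)
open Groth.Agent.ModSiteFlat (rmap rmap_comp)

variable {C : Type u} [SmallCategory C] {J : GrothendieckTopology C} {O_C : Sheaf J CommRingCat.{u}}
  {D : Type u} [SmallCategory D] {K : GrothendieckTopology D} {O_D : Sheaf K CommRingCat.{u}}
  (f : ModSite.RMor O_C O_D) (V : D)

/-- the ring map of the localised morphism -/
noncomputable def φV : ModSite.ringSh (O_D.over V) ⟶
    ((Over.post (X := V) f.fn).sheafPushforwardContinuous RingCat.{u} (K.over V) (J.over (f.fn.obj V))).obj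
      (ModSite.ringSh (O_C.over (f.fn.obj V))) :=
  ((Over.forget V).sheafPushforwardContinuous RingCat.{u} (K.over V) K).map f.sharpR

/-- direct image along the localised morphism -/
noncomputable abbrev pushV : ModSite.Mod (O_C.over (f.fn.obj V)) ⥤ ModSite.Mod (O_D.over V) :=
  SheafOfModules.pushforward.{u} (φV f V)

/-- inverse image along the localised morphism -/
noncomputable abbrev pullV : ModSite.Mod (O_D.over V) ⥤ ModSite.Mod (O_C.over (f.fn.obj V)) :=
  SheafOfModules.pullback.{u} (φV f V)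

/-- the adjunction -/
noncomputable abbrev adjV : pullV f V ⊣ pushV f V :=
  SheafOfModules.pullbackPushforwardAdjunction.{u} (φV f V)

/-- direct image commutes with restriction -/
noncomputable def pushRestrIso : f.push ⋙ ModSite.restr O_D V ≅ ModSite.restr O_C (f.fn.obj V) ⋙ pushV f V :=
  NatIso.ofComponents
    (fun N => (SheafOfModules.fullyFaithfulForget _).preimageIso (PresheafOfModules.isoMk (fun _ => Iso.refl _)))
    (fun {N N'} a => SheafOfModules.hom_ext (PresheafOfModules.hom_ext fun _ => rfl))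

/-- the comparison `(f|V)^*(M|V) ⟶ (f^*M)|fn V` -/
noncomputable def sθ : ModSite.restr O_D V ⋙ pullV f V ⟶ f.pull ⋙ ModSite.restr O_C (f.fn.obj V) where
  app M := ((adjV f V).homEquiv _ _).symm
    ((ModSite.restr O_D V).map (f.adj.unit.app M) ≫ (pushRestrIso f V).hom.app (f.pull.obj M))
  naturality M M' a := by
    change (pullV f V).map ((ModSite.restr O_D V).map a) ≫ _ = _ ≫ (ModSite.restr O_C (f.fn.obj V)).map (f.pull.map a)
    refine ((adjV f V).homEquiv_naturality_left_symm _ _).symm.trans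
      (Eq.trans (congrArg _ ?_) ((adjV f V).homEquiv_naturality_right_symm _ _))
    rw [Category.assoc]
    refine ((Category.assoc _ _ _).symm.trans ?_).trans
      (congrArg ((ModSite.restr O_D V).map (f.adj.unit.app M) ≫ ·)
        ((pushRestrIso f V).hom.naturality (f.pull.map a)))
    refine (congrArg (· ≫ _) ?_).trans (Category.assoc _ _ _)
    exact ((ModSite.restr O_D V).map_comp _ _).symm.trans ((congrArg (ModSite.restr O_D V).map
      (f.adj.unit.naturality a)).trans ((ModSite.restr O_D V).map_comp _ _))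

/-- the image of the generator in the inverse image -/
noncomputable def gW (W : D) : ModSite.sect (f.pull.obj (FY O_D W)) (f.fn.obj W) :=
  (f.adj.unit.app (FY O_D W)).val.app (op W) (gen O_D W)

/-- the inverse image of a free module on a representable -/
noncomputable def pullFY (W : D) : FY O_C (f.fn.obj W) ⟶ f.pull.obj (FY O_D W) :=
  (ModSiteFree.freeSheafifyCorep O_C (f.fn.obj W)).homEquiv.symm (gW f W)

lemma gen_comp {X : C} {M : ModSite.Mod O_C} (a : FY O_C X ⟶ M) :
    (ModSiteFree.freeSheafifyCorep O_C X).homEquiv a = a.val.app (op X) (gen O_C X) := by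
  have h := (ModSiteFree.freeSheafifyCorep O_C X).homEquiv_comp a (𝟙 _)
  rw [Category.id_comp] at h
  exact h

lemma pullFY_gen (W : D) : (pullFY f W).val.app (op (f.fn.obj W)) (gen O_C (f.fn.obj W)) = gW f W :=
  (gen_comp (pullFY f W)).symm.trans ((ModSiteFree.freeSheafifyCorep O_C (f.fn.obj W)).homEquiv.apply_symm_apply _)

instance isIso_pullFY (W : D) : IsIso (pullFY f W) := by
  rw [isIso_iff_coyoneda_map_bijective]
  intro N
  let c : (f.pull.obj (FY O_D W) ⟶ N) ≃ ModSite.sect N (f.fn.obj W) :=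
    (f.adj.homEquiv (FY O_D W) N).trans (ModSiteFree.freeSheafifyCorep O_D W).homEquiv
  have h : ∀ a, (ModSiteFree.freeSheafifyCorep O_C (f.fn.obj W)).homEquiv (pullFY f W ≫ a) = c a := fun a => by
    rw [gen_comp]
    change a.val.app _ ((pullFY f W).val.app _ (gen O_C (f.fn.obj W))) = _
    rw [pullFY_gen]
    exact ((ModSiteFree.freeSheafifyCorep O_D W).homEquiv_comp (f.push.map a) (f.adj.unit.app (FY O_D W))).symm.trans
      (by rfl) |>.trans rfl
  refine ⟨fun a b hab => c.injective ?_, fun y => ⟨c.symm ((ModSiteFree.freeSheafifyCorep O_C _).homEquiv y),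
    (ModSiteFree.freeSheafifyCorep O_C _).homEquiv.injective ?_⟩⟩
  · rw [← h, ← h]
    exact congrArg _ hab
  · exact (h _).trans (c.apply_symm_apply _)

/-- restriction of families along the functor of slices -/
noncomputable def famRes {W : D} {G : ModSite.Mod (O_C.over (f.fn.obj V))} (y : Fam O_C (f.fn.obj V) (f.fn.obj W) G) :
    Fam O_D V W ((pushV f V).obj G) where
  app H := ↾fun l => y.app (op ((Over.post f.fn).obj H.unop)) (f.fn.map l)
  naturality H H' t := by
    ext l
    change y.app (op ((Over.post f.fn).obj H'.unop)) (f.fn.map (t.unop.left ≫ l)) =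
      G.val.map ((Over.post f.fn).map t.unop).op (y.app (op ((Over.post f.fn).obj H.unop)) (f.fn.map l))
    rw [Functor.map_comp]
    exact ConcreteCategory.congr_hom (y.naturality ((Over.post f.fn).map t.unop).op) (f.fn.map l)

include K in
/-- two lifts of a pair of maps into images agree after refinement -/
lemma loc_pair_over₂ [PreservesFiniteLimits (pb J K f.fn)] {U : C} {W V₁ V₂ : D} (a : U ⟶ f.fn.obj V₁)
    (b : U ⟶ f.fn.obj V₂) (q₁ : V₁ ⟶ V) (q₂ : V₂ ⟶ V) (p₁ : V₁ ⟶ W) (p₂ : V₂ ⟶ W)
    (hq : a ≫ f.fn.map q₁ = b ≫ f.fn.map q₂) (hp : a ≫ f.fn.map p₁ = b ≫ f.fn.map p₂) :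
    Loc J U fun U' g => ∃ (T : D) (k : U' ⟶ f.fn.obj T) (l₁ : T ⟶ V₁) (l₂ : T ⟶ V₂),
      k ≫ f.fn.map l₁ = g ≫ a ∧ k ≫ f.fn.map l₂ = g ≫ b ∧ l₁ ≫ q₁ = l₂ ≫ q₂ ∧ l₁ ≫ p₁ = l₂ ≫ p₂ := by
  refine (loc_pair_over (K := K) f.fn a b q₁ q₂ hq).bind ?_
  rintro U' g ⟨T, k, l₁, l₂, h₁, h₂, hl⟩
  refine (loc_equalizer (K := K) f.fn (l₁ ≫ p₁) (l₂ ≫ p₂) k ?_).mono ?_
  · rw [Functor.map_comp, Functor.map_comp, reassoc_of% h₁, reassoc_of% h₂, hp]
  · rintro U'' g' ⟨T', l, k', hk', hl'⟩
    refine ⟨T', k', l ≫ l₁, l ≫ l₂, ?_, ?_, by rw [Category.assoc, hl, Category.assoc],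
      by simpa using hl'⟩
    · rw [Functor.map_comp, reassoc_of% hk', h₁, Category.assoc]
    · rw [Functor.map_comp, reassoc_of% hk', h₂, Category.assoc]

theorem bijective_famRes (W : D) (G : ModSite.Mod (O_C.over (f.fn.obj V))) :
    Function.Bijective (famRes f V (W := W) (G := G)) := by
  have : PreservesFiniteLimits (pb J K f.fn) := f.exact
  have lift_loc : ∀ (H : Over (f.fn.obj V)) (k : H.left ⟶ f.fn.obj W), Loc J H.left fun U' g =>
      ∃ (T : D) (k' : U' ⟶ f.fn.obj T) (q : T ⟶ V) (p : T ⟶ W),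
        k' ≫ f.fn.map q = g ≫ H.hom ∧ k' ≫ f.fn.map p = g ≫ k := fun H k => loc_pair (K := K) f.fn H.hom k
  -- covering sieves in the slice
  have over_loc : ∀ (H : Over (f.fn.obj V)) {P : ∀ ⦃U' : C⦄, (U' ⟶ H.left) → Prop}, Loc J H.left P →
      Loc (J.over (f.fn.obj V)) H fun _ t => P t.left := by
    rintro H P ⟨S, hS, hS'⟩
    exact ⟨_, J.overEquiv_symm_mem_over H S hS, fun H' t ht => hS' _ ((Sieve.overEquiv_symm_iff S t).1 ht)⟩
  let nat : ∀ (y : Fam O_C (f.fn.obj V) (f.fn.obj W) G) {H H' : Over (f.fn.obj V)} (t : H' ⟶ H)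
      (k : H.left ⟶ f.fn.obj W), rmap G t (y.app (op H) k) = y.app (op H') (t.left ≫ k) :=
    fun y H H' t k => (ConcreteCategory.congr_hom (y.naturality t.op) k).symm
  refine ⟨fun y y' hy => ?_, fun z => ?_⟩
  · ext ⟨H⟩ k
    refine sect_ext ((over_loc H (lift_loc H k)).mono ?_)
    rintro H' t ⟨T, k', q, p, h₁, h₂⟩
    change rmap G t (y.app (op H) k : ModSite.sect G H) = rmap G t (y'.app (op H) k : ModSite.sect G H)
    let k'' : H' ⟶ (Over.post (X := V) f.fn).obj (Over.mk q) := Over.homMk k' (h₁.trans (Over.w t))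
    have e := congrArg (rmap G k'') (ConcreteCategory.congr_hom (NatTrans.congr_app hy (op (Over.mk q))) p)
    change rmap G k'' (y.app _ (f.fn.map p)) = rmap G k'' (y'.app _ (f.fn.map p)) at e
    rw [nat, nat] at e
    rw [nat, nat]
    change y.app _ (k' ≫ f.fn.map p) = y'.app _ (k' ≫ f.fn.map p) at e
    rw [h₂] at e
    exact e
  · -- value of the family on lifted data
    let val : ∀ {H : Over (f.fn.obj V)} {T : Over V}, (H ⟶ (Over.post (X := V) f.fn).obj T) → (T.left ⟶ W) →
        ModSite.sect G H := fun {H T} k' p => rmap G k' (z.app (op T) p)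
    have val_res : ∀ {H H' : Over (f.fn.obj V)} {T : Over V} (t : H' ⟶ H)
        (k' : H ⟶ (Over.post (X := V) f.fn).obj T) (p : T.left ⟶ W),
        rmap G t (val k' p) = val (t ≫ k') p := fun t k' p => (rmap_comp G k' t _).symm
    have val_map : ∀ {H : Over (f.fn.obj V)} {T T' : Over V} (k' : H ⟶ (Over.post (X := V) f.fn).obj T')
        (l : T' ⟶ T) (p : T.left ⟶ W), val (k' ≫ (Over.post f.fn).map l) p = val k' (l.left ≫ p) :=
      fun {H T T'} k' l p => by
        refine (rmap_comp G ((Over.post f.fn).map l) k' _).trans (congrArg (rmap G k') ?_)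
        exact (ConcreteCategory.congr_hom (z.naturality l.op) p).symm
    have wd : ∀ {H : Over (f.fn.obj V)} {T₁ T₂ : Over V} (k₁ : H ⟶ (Over.post (X := V) f.fn).obj T₁)
        (k₂ : H ⟶ (Over.post (X := V) f.fn).obj T₂) (p₁ : T₁.left ⟶ W) (p₂ : T₂.left ⟶ W),
        k₁.left ≫ f.fn.map p₁ = k₂.left ≫ f.fn.map p₂ → val k₁ p₁ = val k₂ p₂ := fun {H T₁ T₂} k₁ k₂ p₁ p₂ hp => by
      refine sect_ext ((over_loc H (loc_pair_over₂ f V k₁.left k₂.left T₁.hom T₂.hom p₁ p₂
        ((Over.w k₁).trans (Over.w k₂).symm) hp)).mono ?_)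
      rintro H' t ⟨T, k, l₁, l₂, h₁, h₂, hl, hl'⟩
      let T' : Over V := Over.mk (l₁ ≫ T₁.hom)
      let k' : H' ⟶ (Over.post (X := V) f.fn).obj T' := Over.homMk k (by
        change k ≫ f.fn.map (l₁ ≫ T₁.hom) = H'.hom
        rw [Functor.map_comp, reassoc_of% h₁]
        exact (congrArg (t.left ≫ ·) (Over.w k₁)).trans (Over.w t))
      let m₁ : T' ⟶ T₁ := Over.homMk l₁
      let m₂ : T' ⟶ T₂ := Over.homMk l₂ hl.symm
      rw [val_res, val_res, show t ≫ k₁ = k' ≫ (Over.post f.fn).map m₁ from Over.OverMorphism.ext h₁.symm,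
        show t ≫ k₂ = k' ≫ (Over.post f.fn).map m₂ from Over.OverMorphism.ext h₂.symm, val_map, val_map]
      exact congrArg (val k') hl'
    have hval : ∀ (H : Over (f.fn.obj V)) (k : H.left ⟶ f.fn.obj W), ∃ s : ModSite.sect G H,
        ∀ {H' : Over (f.fn.obj V)} (t : H' ⟶ H) {T : Over V} (k' : H' ⟶ (Over.post (X := V) f.fn).obj T)
          (p : T.left ⟶ W), k'.left ≫ f.fn.map p = t.left ≫ k → rmap G t s = val k' p := fun H k => by
      obtain ⟨S, hS, hS'⟩ := over_loc H (lift_loc H k)
      have hd : ∀ ⦃H' : Over (f.fn.obj V)⦄ (t : H' ⟶ H), S t → ∃ (T : Over V)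
          (k' : H' ⟶ (Over.post (X := V) f.fn).obj T) (p : T.left ⟶ W), k'.left ≫ f.fn.map p = t.left ≫ k :=
        fun H' t ht => by
          obtain ⟨T, k', q, p, h₁, h₂⟩ := hS' t ht
          exact ⟨Over.mk q, Over.homMk k' (h₁.trans (Over.w t)), p, h₂⟩
      choose T k' p hp using hd
      obtain ⟨s, hs⟩ := sect_glue hS (fun H' t ht => val (k' t ht) (p t ht)) (fun H₁ H₂ t ht v => by
        refine (val_res v _ _).trans (wd _ _ _ _ ?_)
        rw [Over.comp_left, Category.assoc, hp, hp, Over.comp_left, Category.assoc])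
      refine ⟨s, fun {H'} t {T'} k₀ p₀ h₀ => sect_ext ((Loc.of_mem ((J.over _).pullback_stable t hS)).mono
        fun H'' t' ht' => ?_)⟩
      rw [← rmap_comp, hs _ ht', val_res]
      refine wd _ _ _ _ ?_
      rw [hp, Over.comp_left, Over.comp_left, Category.assoc, Category.assoc, h₀]
    choose s hs using hval
    have hnat : ∀ {H H' : Over (f.fn.obj V)} (t : H' ⟶ H) (k : H.left ⟶ f.fn.obj W),
        s H' (t.left ≫ k) = rmap G t (s H k) := fun {H H'} t k => by
      refine sect_ext ((over_loc H' (lift_loc H' (t.left ≫ k))).mono ?_)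
      rintro H'' t' ⟨T, k', q, p, h₁, h₂⟩
      let k'' : H'' ⟶ (Over.post (X := V) f.fn).obj (Over.mk q) := Over.homMk k' (h₁.trans (Over.w t'))
      rw [hs H' (t.left ≫ k) t' k'' p h₂, ← rmap_comp, hs H k (t' ≫ t) k'' p (h₂.trans (Category.assoc _ _ _).symm)]
    refine ⟨{ app := fun H => ↾fun k => s H.unop k, naturality := fun H H' t => ?_ }, ?_⟩
    · ext k
      exact hnat t.unop k
    · ext ⟨T⟩ p
      have e : ∀ m : ModSite.sect G ((Over.post (X := V) f.fn).obj T), rmap G (𝟙 _) m = m := fun m =>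
        (congrArg (fun φ => φ m) (G.val.presheaf.map_id (op ((Over.post (X := V) f.fn).obj T))) : _)
      change (s ((Over.post (X := V) f.fn).obj T) (f.fn.map p) : ModSite.sect G _) = z.app (op T) p
      exact (e _).symm.trans ((hs _ (f.fn.map p) (𝟙 _) (𝟙 _) p rfl).trans (e _))

instance isIso_sθ_FY (W : D) : IsIso ((sθ f V).app (FY O_D W)) := by
  rw [isIso_iff_coyoneda_map_bijective]
  intro G
  let R := ModSite.restr O_C (f.fn.obj V)
  have h : ∀ a : R.obj (f.pull.obj (FY O_D W)) ⟶ G,
      famOf (((adjV f V).homEquiv _ _) ((sθ f V).app (FY O_D W) ≫ a)) = famRes f V (famOf (R.map (pullFY f W) ≫ a)) :=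
    fun a => by
      ext H l
      rw [Adjunction.homEquiv_naturality_right]
      erw [Equiv.apply_symm_apply]
      change a.val.app (op ((Over.post f.fn).obj H.unop))
          ((f.adj.unit.app (FY O_D W)).val.app (op H.unop.left) ((FY O_D W).val.map l.op (gen O_D W))) =
        a.val.app (op ((Over.post f.fn).obj H.unop))
          ((pullFY f W).val.app (op (f.fn.obj H.unop.left)) ((FY O_C (f.fn.obj W)).val.map (f.fn.map l).op (gen O_C (f.fn.obj W))))
      refine congrArg _ ?_
      refine (PresheafOfModules.naturality_apply (f.adj.unit.app (FY O_D W)).val l.op (gen O_D W)).trans ?_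
      refine Eq.trans ?_ (PresheafOfModules.naturality_apply (pullFY f W).val (f.fn.map l).op (gen O_C (f.fn.obj W))).symm
      rw [pullFY_gen]
      rfl
  have hb : Function.Bijective (fun a : R.obj (f.pull.obj (FY O_D W)) ⟶ G =>
      famOf (((adjV f V).homEquiv _ _) ((sθ f V).app (FY O_D W) ≫ a))) := by
    rw [funext h]
    exact (bijective_famRes f V W G).comp ((bijective_famOf G).comp
      ((asIso (R.map (pullFY f W))).homFromEquiv.symm.bijective))
  exact (Function.Bijective.of_comp_iff' ((adjV f V).homEquiv _ G).bijective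
      (fun a : R.obj (f.pull.obj (FY O_D W)) ⟶ G => (sθ f V).app (FY O_D W) ≫ a)).1
    ((Function.Bijective.of_comp_iff' (bijective_famOf (O := O_D) (U := V) (X := W) ((pushV f V).obj G)) _).1 hb)

/-- the comparison is an isomorphism -/
instance isIso_sθ : IsIso (sθ f V) := by
  have : ∀ M, IsIso ((sθ f V).app M) := fun M => by
    let L : PresheafOfModules.{u} (ModSite.ringSh O_D).obj ⥤ ModSite.Mod O_D := ModSite.sheafify O_D
    let adj := PresheafOfModules.sheafificationAdjunction.{u} (R := ModSite.ringSh O_D) (𝟙 (ModSite.ringSh O_D).obj)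
    have hL : PreservesColimitsOfSize.{u, u} L := adj.leftAdjoint_preservesColimits
    have hR : PreservesColimitsOfSize.{u, u} (ModSite.restr O_D V) :=
      ModSiteFlat.preservesColimits_pushforward (F := Over.forget V) _
    have hR' : PreservesColimitsOfSize.{u, u} (ModSite.restr O_C (f.fn.obj V)) :=
      ModSiteFlat.preservesColimits_pushforward (F := Over.forget (f.fn.obj V)) _
    have hP : PreservesColimitsOfSize.{u, u} (pullV f V) := (adjV f V).leftAdjoint_preservesColimits
    have hQ : PreservesColimitsOfSize.{u, u} f.pull := f.adj.leftAdjoint_preservesColimits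
    let τ := Functor.whiskerLeft L (sθ f V)
    have hτ : PreservesColimitsOfSize.{u, u} (L ⋙ ModSite.restr O_D V ⋙ pullV f V) := inferInstance
    have hτ' : PreservesColimitsOfSize.{u, u} (L ⋙ f.pull ⋙ ModSite.restr O_C (f.fn.obj V)) := inferInstance
    have : PreservesColimitsOfSize.{0, 0} (L ⋙ ModSite.restr O_D V ⋙ pullV f V) :=
      preservesSmallestColimits_of_preservesColimits _
    have : PreservesColimitsOfSize.{0, 0} (L ⋙ f.pull ⋙ ModSite.restr O_C (f.fn.obj V)) :=
      preservesSmallestColimits_of_preservesColimits _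
    have hcop : ∀ N : PresheafOfModules.{u} (ModSite.ringSh O_D).obj, IsIso (τ.app N.freeYonedaCoproduct) := fun N => by
      have : ∀ j, IsIso (τ.app ((Discrete.functor (PresheafOfModules.Elements.freeYoneda (M := N))).obj j)) :=
        fun j => isIso_sθ_FY f V _
      exact ModSiteTensor.isIso_app_of_isColimit τ (Discrete.functor (PresheafOfModules.Elements.freeYoneda (M := N)))
        (c := Cofan.mk _ (Sigma.ι (PresheafOfModules.Elements.freeYoneda (M := N))))
        (coproductIsCoproduct (PresheafOfModules.Elements.freeYoneda (M := N)))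
    let N := (SheafOfModules.forget (ModSite.ringSh O_D)).obj M
    have : ∀ j, IsIso (τ.app ((parallelPair N.toFreeYonedaCoproduct 0).obj j)) := by
      rintro (_ | _) <;> exact hcop _
    have h : IsIso ((sθ f V).app (L.obj N)) := ModSiteTensor.isIso_app_of_isColimit τ
      (parallelPair N.toFreeYonedaCoproduct 0) (c := N.freeYonedaCoproductsCokernelCofork)
      N.isColimitFreeYonedaCoproductsCokernelCofork
    let e : L.obj N ≅ M := @asIso _ _ _ _ (adj.counit.app M) inferInstance
    have hn := (sθ f V).naturality e.inv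
    have : (sθ f V).app M = (ModSite.restr O_D V ⋙ pullV f V).map e.inv ≫ (sθ f V).app (L.obj N) ≫
        (f.pull ⋙ ModSite.restr O_C (f.fn.obj V)).map e.hom := by
      rw [← Category.assoc, hn, Category.assoc, ← Functor.map_comp, e.inv_hom_id,
        CategoryTheory.Functor.map_id, Category.comp_id]
    rw [this]
    infer_instance
  exact NatIso.isIso_of_isIso_app _

/-- inverse image commutes with restriction to slices -/
noncomputable def pullRestrIso (M : ModSite.Mod O_D) :
    (pullV f V).obj ((ModSite.restr O_D V).obj M) ≅ (ModSite.restr O_C (f.fn.obj V)).obj (f.pull.obj M) :=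
  (asIso (sθ f V)).app M

end Groth.Agent.PullFlat
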