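import Groth.Agent.PullFlat.Tensor

/-!
The natural isomorphism `f^* M ⊗ f^* N ≅ f^*(M ⊗ N)` on ringed sites.
-/

set_option backward.isDefEq.respectTransparency false
set_option backward.isDefEq.respectTransparency.types false
set_option linter.style.haveILetI false
set_option autoImplicit false
set_option maxHeartbeats 1000000

universe u

open CategoryTheory Category Limits Opposite TensorProduct
open MonoidalCategory (tensorObj)

namespace Groth.Agent.PullFlat

attribute [local instance] ModSiteFlat.instModuleSect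

variable {C D : Type u} [SmallCategory C] [SmallCategory D] {J : GrothendieckTopology C} {K : GrothendieckTopology D}
variable {O_C : Sheaf J CommRingCat.{u}} {O_D : Sheaf K CommRingCat.{u}} (f : ModSite.RMor O_C O_D) (M N : ModSite.Mod O_D)

attribute [local instance] instModulePQ instModulePM'

/-- the sheaf tensor product of the inverse images, from presheaves -/
noncomputable abbrev tA : ModSite.Mod O_C := (ModSiteExt.Sh O_C).obj (QTen f M N)

/-- the universal bilinear map -/
noncomputable def τT : PTen M N ⟶ (PresheafOfModules.pushforward.{u} f.sharpR.hom).obj (tA f M N).val where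
  app V := ModuleCat.MonoidalCategory.tensorLift
    (fun m n => (ModSiteTensor.η O_C (QTen f M N)).app (op (f.fn.obj V.unop)) (ηQ f M V.unop m ⊗ₜ ηQ f N V.unop n))
    (fun m m' n => by
      rw [ηQ_add]
      erw [TensorProduct.add_tmul, map_add])
    (fun r m n => by
      erw [ηQ_smul, ← TensorProduct.smul_tmul']
      exact ((ModSiteTensor.η O_C (QTen f M N)).app (op (f.fn.obj V.unop))).hom.map_smul _ _)
    (fun m n n' => by
      rw [ηQ_add]
      erw [TensorProduct.tmul_add, map_add])
    (fun r m n => by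
      erw [ηQ_smul, TensorProduct.tmul_smul]
      exact ((ModSiteTensor.η O_C (QTen f M N)).app (op (f.fn.obj V.unop))).hom.map_smul _ _)
  naturality {V V'} h := ModuleCat.MonoidalCategory.tensor_ext fun m n => by
    change (ModSiteTensor.η O_C (QTen f M N)).app _
        (ηQ f M V'.unop (ModSiteFlat.rmap M h.unop m) ⊗ₜ ηQ f N V'.unop (ModSiteFlat.rmap N h.unop n)) =
      (tA f M N).val.map (f.fn.map h.unop).op ((ModSiteTensor.η O_C (QTen f M N)).app _ (ηQ f M V.unop m ⊗ₜ ηQ f N V.unop n))
    refine Eq.trans ?_ (PresheafOfModules.naturality_apply (ModSiteTensor.η O_C (QTen f M N)) (f.fn.map h.unop).op _)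
    refine congrArg _ (Eq.trans ?_ (PresheafOfModules.Monoidal.tensorObj_map_tmul (M₁ := PQ f M) (M₂ := PQ f N) (f.fn.map h.unop).op _ _).symm)
    rw [← ηQ_res, ← ηQ_res]
    rfl

/-- maps out of the tensor of inverse images as bilinear maps -/
noncomputable def Φ {G : ModSite.Mod O_C} (a : tA f M N ⟶ G) :
    PTen M N ⟶ (PresheafOfModules.pushforward.{u} f.sharpR.hom).obj G.val :=
  τT f M N ≫ (PresheafOfModules.pushforward.{u} f.sharpR.hom).map ((SheafOfModules.forget (ModSite.ringSh O_C)).map a)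

lemma Φ_tmul {G : ModSite.Mod O_C} (a : tA f M N ⟶ G) {U : C} {W : D} (k : U ⟶ f.fn.obj W)
    (m : ModSite.sect M W) (n : ModSite.sect N W) :
    bK (Φ f M N a) k m n = (ModSiteTensor.η O_C (QTen f M N) ≫ (SheafOfModules.forget (ModSite.ringSh O_C)).map a).app (op U)
      (gev f M ⟨W, k, m⟩ ⊗ₜ gev f N ⟨W, k, n⟩) := by
  refine Eq.trans ?_ (congrArg _ (PresheafOfModules.Monoidal.tensorObj_map_tmul (M₁ := PQ f M) (M₂ := PQ f N) k.op
    (ηQ f M W m) (ηQ f N W n)))
  exact (PresheafOfModules.naturality_apply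
    (ModSiteTensor.η O_C (QTen f M N) ≫ (SheafOfModules.forget (ModSite.ringSh O_C)).map a) k.op _).symm

variable [PreservesFiniteLimits (pb J K f.fn)]

/-- the universal property -/
lemma Φ_bijective (G : ModSite.Mod O_C) : Function.Bijective (Φ f M N (G := G)) := by
  let adj := PresheafOfModules.sheafificationAdjunction.{u} (R := ModSite.ringSh O_C) (𝟙 (ModSite.ringSh O_C).obj)
  refine ⟨fun a b h => (adj.homEquiv _ _).injective ?_, fun ρ => ⟨(adj.homEquiv _ _).symm (εQ ρ), ?_⟩⟩
  · rw [adj.homEquiv_unit, adj.homEquiv_unit]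
    refine εQ_ext (G := G) fun U W k m n => ?_
    refine (Φ_tmul f M N a k m n).symm.trans (Eq.trans ?_ (Φ_tmul f M N b k m n))
    rw [h]
  · generalize ha : (adj.homEquiv _ G).symm (εQ ρ) = a
    have h1 : ModSiteTensor.η O_C (QTen f M N) ≫ (SheafOfModules.forget (ModSite.ringSh O_C)).map a = εQ ρ := by
      rw [← ha]
      exact (adj.homEquiv_unit _ _ _).symm.trans ((adj.homEquiv _ _).apply_symm_apply _)
    refine PresheafOfModules.hom_ext fun V => ModuleCat.MonoidalCategory.tensor_ext fun m n => ?_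
    change bV (Φ f M N a) V.unop m n = bV ρ V.unop m n
    have h2 := Φ_tmul f M N a (𝟙 (f.fn.obj V.unop)) m n
    rw [h1] at h2
    replace h2 := h2.trans (εQ_gev ρ (𝟙 (f.fn.obj V.unop)) m n)
    have e : ∀ (ρ' : PTen M N ⟶ (PresheafOfModules.pushforward.{u} f.sharpR.hom).obj G.val),
        bK ρ' (𝟙 (f.fn.obj V.unop)) m n = bV ρ' V.unop m n := fun ρ' =>
      ConcreteCategory.congr_hom (G.val.presheaf.map_id _) _
    rwa [e, e] at h2

/-- the equivalence describing maps out of the inverse image of a tensor product -/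
noncomputable def pullTenEquiv (G : ModSite.Mod O_C) :
    (f.pull.obj ((ModSiteExt.Sh O_D).obj (PTen M N)) ⟶ G) ≃
      (PTen M N ⟶ (PresheafOfModules.pushforward.{u} f.sharpR.hom).obj G.val) :=
  (f.adj.homEquiv _ G).trans ((PresheafOfModules.sheafificationAdjunction.{u} (R := ModSite.ringSh O_D)
    (𝟙 (ModSite.ringSh O_D).obj)).homEquiv (PTen M N) (f.push.obj G))

lemma pullTenEquiv_comp {G G' : ModSite.Mod O_C} (a : f.pull.obj ((ModSiteExt.Sh O_D).obj (PTen M N)) ⟶ G)
    (b : G ⟶ G') : pullTenEquiv f M N G' (a ≫ b) = pullTenEquiv f M N G a ≫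
      (PresheafOfModules.pushforward.{u} f.sharpR.hom).map ((SheafOfModules.forget (ModSite.ringSh O_C)).map b) := by
  simp only [pullTenEquiv, Equiv.trans_apply, Adjunction.homEquiv_naturality_right]
  rfl

/-- the comparison map -/
noncomputable def tenCmp : f.pull.obj ((ModSiteExt.Sh O_D).obj (PTen M N)) ⟶ tA f M N :=
  (pullTenEquiv f M N _).symm (τT f M N)

lemma isIso_tenCmp : IsIso (tenCmp f M N) := by
  have hΦ : ∀ {G : ModSite.Mod O_C} (a : tA f M N ⟶ G), pullTenEquiv f M N G (tenCmp f M N ≫ a) = Φ f M N a :=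
    fun a => by rw [pullTenEquiv_comp, tenCmp, Equiv.apply_symm_apply]; rfl
  obtain ⟨b, hb⟩ := (Φ_bijective f M N (f.pull.obj ((ModSiteExt.Sh O_D).obj (PTen M N)))).2
    (pullTenEquiv f M N _ (𝟙 _))
  have h1 : tenCmp f M N ≫ b = 𝟙 _ := (pullTenEquiv f M N _).injective ((hΦ b).trans hb)
  refine ⟨b, h1, (Φ_bijective f M N _).1 ?_⟩
  rw [← hΦ, ← hΦ, reassoc_of% h1, comp_id]

/-- `f^* M ⊗ f^* N ≅ f^*(M ⊗ N)` -/
noncomputable def pullTensorIso :
    ((ModSite.tensorBi O_C).obj (f.pull.obj M)).obj (f.pull.obj N) ≅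
      f.pull.obj (((ModSite.tensorBi O_D).obj M).obj N) :=
  ((ModSite.tensorBi O_C).mapIso ((SheafOfModules.pullbackIso.{u} f.sharpR).app M)).app (f.pull.obj N) ≪≫
    ((ModSite.tensorBi O_C).obj _).mapIso ((SheafOfModules.pullbackIso.{u} f.sharpR).app N) ≪≫
    (ModSiteTensor.sheafifyTensorIso O_C (PQ f M) (PQ f N)).symm ≪≫
    (@asIso _ _ _ _ (tenCmp f M N) (isIso_tenCmp f M N)).symm

end Groth.Agent.PullFlat
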