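import Groth.Agent.PullFlat.Formal
import Groth.Agent.ModSiteTensor.Colimit

/-!
Inverse images on ringed sites commute with tensor products.
-/

set_option backward.isDefEq.respectTransparency false
set_option backward.isDefEq.respectTransparency.types false
set_option linter.style.haveILetI false
set_option autoImplicit false
set_option maxHeartbeats 1000000

universe u

open CategoryTheory Category Limits Opposite TensorProduct
open MonoidalCategory (tensorObj)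

namespace Groth.Agent.PullFlat

attribute [local instance] ModSiteFlat.instModuleSect

variable {C D : Type u} [SmallCategory C] [SmallCategory D] {J : GrothendieckTopology C} {K : GrothendieckTopology D}
variable {O_C : Sheaf J CommRingCat.{u}} {O_D : Sheaf K CommRingCat.{u}}

section Glue

variable {G : ModSite.Mod O_C}

/-- sections agreeing locally are equal -/
lemma sect_ext {U : C} {s t : ModSite.sect G U}
    (h : Loc J U fun _ g => ModSiteFlat.rmap G g s = ModSiteFlat.rmap G g t) : s = t := by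
  obtain ⟨S, hS, hS'⟩ := h
  exact (((isSheaf_iff_isSheaf_of_type J _).1 (Presheaf.isSheaf_comp_of_isSheaf J _ (forget AddCommGrpCat.{u}) G.isSheaf)) S hS).isSeparatedFor.ext
    fun U' g hg => hS' g hg

/-- compatible sections glue -/
lemma sect_glue {U : C} {S : Sieve U} (hS : S ∈ J U) (x : ∀ ⦃U' : C⦄ (g : U' ⟶ U), S g → ModSite.sect G U')
    (hx : ∀ ⦃U₁ U₂ : C⦄ (g : U₁ ⟶ U) (hg : S g) (u : U₂ ⟶ U₁), ModSiteFlat.rmap G u (x g hg) = x (u ≫ g) (S.downward_closed hg u)) :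
    ∃ s : ModSite.sect G U, ∀ ⦃U' : C⦄ (g : U' ⟶ U) (hg : S g), ModSiteFlat.rmap G g s = x g hg := by
  have hc : Presieve.FamilyOfElements.SieveCompatible (P := G.val.presheaf ⋙ forget AddCommGrpCat.{u}) x :=
    fun U₁ U₂ g u hg => (hx g hg u).symm
  have h := ((isSheaf_iff_isSheaf_of_type J _).1
    (Presheaf.isSheaf_comp_of_isSheaf J _ (forget AddCommGrpCat.{u}) G.isSheaf)) S hS
  exact ⟨h.amalgamate x ((Presieve.compatible_iff_sieveCompatible _).2 hc),
    fun U' g hg => h.isAmalgamation _ g hg⟩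

end Glue

variable (f : ModSite.RMor O_C O_D) (M N : ModSite.Mod O_D)

/-- the underlying tensor product of presheaves -/
noncomputable abbrev PTen : ModSiteExt.PM O_D.obj := tensorObj (C := ModSiteExt.PM O_D.obj) M.val N.val

/-- the tensor product of presheaf inverse images -/
noncomputable abbrev QTen : ModSiteExt.PM O_C.obj := tensorObj (C := ModSiteExt.PM O_C.obj) (PQ f M) (PQ f N)

noncomputable local instance instModulePM' (Q : ModSiteExt.PM O_C.obj) (U : C) :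
    Module (O_C.obj.obj (op U) : Type u) (Q.obj (op U)) :=
  (Q.obj (op U)).isModule

attribute [local instance] instModulePQ

variable {f M N} {G : ModSite.Mod O_C} (ρ : PTen M N ⟶ (PresheafOfModules.pushforward.{u} f.sharpR.hom).obj G.val)

/-- the bilinear map on sections -/
noncomputable def bV (W : D) (m : ModSite.sect M W) (n : ModSite.sect N W) : ModSite.sect G (f.fn.obj W) :=
  ρ.app (op W) (m ⊗ₜ n)

lemma bV_res {V W : D} (r : W ⟶ V) (m : ModSite.sect M V) (n : ModSite.sect N V) :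
    ModSiteFlat.rmap G (f.fn.map r) (bV ρ V m n) = bV ρ W (ModSiteFlat.rmap M r m) (ModSiteFlat.rmap N r n) := by
  refine Eq.trans (PresheafOfModules.naturality_apply ρ r.op (m ⊗ₜ n)).symm ?_
  exact congrArg _ (PresheafOfModules.Monoidal.tensorObj_map_tmul (M₁ := M.val) (M₂ := N.val) r.op m n)

/-- the value at a common object -/
noncomputable def bK {U : C} {W : D} (k : U ⟶ f.fn.obj W) (m : ModSite.sect M W) (n : ModSite.sect N W) :
    ModSite.sect G U :=
  ModSiteFlat.rmap G k (bV ρ W m n)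

lemma bK_comp {U : C} {V W : D} (k : U ⟶ f.fn.obj W) (r : W ⟶ V) (m : ModSite.sect M V) (n : ModSite.sect N V) :
    bK ρ (k ≫ f.fn.map r) m n = bK ρ k (ModSiteFlat.rmap M r m) (ModSiteFlat.rmap N r n) := by
  rw [bK, bK, ModSiteFlat.rmap_comp, bV_res]

lemma bK_res {U U' : C} {W : D} (u : U' ⟶ U) (k : U ⟶ f.fn.obj W) (m : ModSite.sect M W) (n : ModSite.sect N W) :
    ModSiteFlat.rmap G u (bK ρ k m n) = bK ρ (u ≫ k) m n :=
  (ModSiteFlat.rmap_comp G k u _).symm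

lemma bK_add_left {U : C} {W : D} (k : U ⟶ f.fn.obj W) (m m' : ModSite.sect M W) (n : ModSite.sect N W) :
    bK ρ k (m + m') n = bK ρ k m n + bK ρ k m' n := by
  simp only [bK, bV]
  rw [← map_add]
  exact congrArg _ ((congrArg _ (add_tmul (R := O_D.obj.obj (op W)) m m' n)).trans (map_add (ρ.app (op W)).hom _ _))

lemma bK_add_right {U : C} {W : D} (k : U ⟶ f.fn.obj W) (m : ModSite.sect M W) (n n' : ModSite.sect N W) :
    bK ρ k m (n + n') = bK ρ k m n + bK ρ k m n' := by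
  simp only [bK, bV]
  rw [← map_add]
  exact congrArg _ ((congrArg _ (tmul_add (R := O_D.obj.obj (op W)) m n n')).trans (map_add (ρ.app (op W)).hom _ _))

lemma bK_smul_left {U : C} {W : D} (k : U ⟶ f.fn.obj W) (a : O_D.obj.obj (op W)) (m : ModSite.sect M W) (n : ModSite.sect N W) :
    bK ρ k (a • m) n = sc f k a • bK ρ k m n := by
  simp only [bK, bV]
  refine Eq.trans (congrArg _ ?_) (ModSiteFlat.rmap_smul G k ((f.sharp.hom.app (op W)).hom a) _)
  exact (congrArg _ (smul_tmul' (R := O_D.obj.obj (op W)) a m n).symm).trans ((ρ.app (op W)).hom.map_smul a _)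

lemma bK_smul_right {U : C} {W : D} (k : U ⟶ f.fn.obj W) (a : O_D.obj.obj (op W)) (m : ModSite.sect M W) (n : ModSite.sect N W) :
    bK ρ k m (a • n) = sc f k a • bK ρ k m n := by
  simp only [bK, bV]
  refine Eq.trans (congrArg _ ?_) (ModSiteFlat.rmap_smul G k ((f.sharp.hom.app (op W)).hom a) _)
  exact (congrArg _ (tmul_smul (R := O_D.obj.obj (op W)) a m n)).trans ((ρ.app (op W)).hom.map_smul a _)

/-- a section is the pairing of two generators, wherever they have a common object -/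
def Pairs {U : C} (i : Idx f M U) (j : Idx f N U) (s : ModSite.sect G U) : Prop :=
  ∀ ⦃U' : C⦄ (g : U' ⟶ U) (W : D) (k : U' ⟶ f.fn.obj W) (l₁ : W ⟶ i.1) (l₂ : W ⟶ j.1),
    k ≫ f.fn.map l₁ = g ≫ i.2.1 → k ≫ f.fn.map l₂ = g ≫ j.2.1 →
      ModSiteFlat.rmap G g s = bK ρ k (ModSiteFlat.rmap M l₁ i.2.2) (ModSiteFlat.rmap N l₂ j.2.2)

variable [PreservesFiniteLimits (pb J K f.fn)]

lemma bK_indep {U : C} {V₁ V₂ W W' : D} (k : U ⟶ f.fn.obj W) (k' : U ⟶ f.fn.obj W') (l₁ : W ⟶ V₁) (l₂ : W ⟶ V₂)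
    (l₁' : W' ⟶ V₁) (l₂' : W' ⟶ V₂) (h₁ : k ≫ f.fn.map l₁ = k' ≫ f.fn.map l₁')
    (h₂ : k ≫ f.fn.map l₂ = k' ≫ f.fn.map l₂') (m : ModSite.sect M V₁) (n : ModSite.sect N V₂) :
    bK ρ k (ModSiteFlat.rmap M l₁ m) (ModSiteFlat.rmap N l₂ n) =
      bK ρ k' (ModSiteFlat.rmap M l₁' m) (ModSiteFlat.rmap N l₂' n) := by
  refine sect_ext ((loc_pair (K := K) f.fn k k').bind ?_)
  rintro U₁ g₁ ⟨W₁, k₁, r, r', hr, hr'⟩
  refine (loc_equalizer (K := K) f.fn (r ≫ l₁) (r' ≫ l₁') k₁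
    (by simp only [Functor.map_comp, reassoc_of% hr, reassoc_of% hr', h₁])).bind ?_
  rintro U₂ g₂ ⟨W₂, e₂, k₂, hk₂, hq₂⟩
  refine (loc_equalizer (K := K) f.fn (e₂ ≫ r ≫ l₂) (e₂ ≫ r' ≫ l₂') k₂
    (by simp only [Functor.map_comp, reassoc_of% hk₂, reassoc_of% hr, reassoc_of% hr', h₂])).mono ?_
  rintro U₃ g₃ ⟨W₃, e₃, k₃, hk₃, hq₃⟩
  have hl : (g₃ ≫ g₂ ≫ g₁) ≫ k = k₃ ≫ f.fn.map (e₃ ≫ e₂ ≫ r) := by
    simp only [Functor.map_comp, assoc, reassoc_of% hk₃, reassoc_of% hk₂, hr]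
  have hl' : (g₃ ≫ g₂ ≫ g₁) ≫ k' = k₃ ≫ f.fn.map (e₃ ≫ e₂ ≫ r') := by
    simp only [Functor.map_comp, assoc, reassoc_of% hk₃, reassoc_of% hk₂, hr']
  rw [assoc, bK_res, bK_res, hl, hl', bK_comp, bK_comp]
  simp only [← ModSiteFlat.rmap_comp, assoc, hq₂, hq₃]

lemma exists_pairs {U : C} (i : Idx f M U) (j : Idx f N U) : ∃ s, Pairs ρ i j s := by
  let S : Sieve U :=
    { arrows := fun U' g => ∃ (W : D) (k : U' ⟶ f.fn.obj W) (l₁ : W ⟶ i.1) (l₂ : W ⟶ j.1),
        k ≫ f.fn.map l₁ = g ≫ i.2.1 ∧ k ≫ f.fn.map l₂ = g ≫ j.2.1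
      downward_closed := by
        rintro Y Z g ⟨W, k, l₁, l₂, h₁, h₂⟩ h
        exact ⟨W, h ≫ k, l₁, l₂, by simp [h₁], by simp [h₂]⟩ }
  obtain ⟨T, hT, hT'⟩ := loc_pair (J := J) (K := K) f.fn i.2.1 j.2.1
  have hS : S ∈ J U := J.superset_covering (fun U' g hg => hT' g hg) hT
  choose W k l₁ l₂ h₁ h₂ using fun U' (g : U' ⟶ U) (hg : S g) => hg
  obtain ⟨s, hs⟩ := sect_glue (G := G) hS
    (fun U' g hg => bK ρ (k U' g hg) (ModSiteFlat.rmap M (l₁ U' g hg) i.2.2) (ModSiteFlat.rmap N (l₂ U' g hg) j.2.2))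
    fun U₁ U₂ g hg u => by
      rw [bK_res]
      exact bK_indep ρ _ _ _ _ _ _ (by rw [assoc, h₁, h₁, assoc]) (by rw [assoc, h₂, h₂, assoc]) _ _
  refine ⟨s, fun U' g W' k' l₁' l₂' e₁ e₂ => ?_⟩
  have hg : S g := ⟨W', k', l₁', l₂', e₁, e₂⟩
  rw [hs g hg]
  exact bK_indep ρ _ _ _ _ _ _ ((h₁ _ _ hg).trans e₁.symm) ((h₂ _ _ hg).trans e₂.symm) _ _

/-- the pairing of two generators -/
noncomputable def β {U : C} (i : Idx f M U) (j : Idx f N U) : ModSite.sect G U := (exists_pairs ρ i j).choose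

lemma β_spec {U : C} (i : Idx f M U) (j : Idx f N U) : Pairs ρ i j (β ρ i j) := (exists_pairs ρ i j).choose_spec

lemma β_res {U U' : C} (u : U' ⟶ U) (i : Idx f M U) (j : Idx f N U) :
    ModSiteFlat.rmap G u (β ρ i j) = β ρ (resIdx f M u i) (resIdx f N u j) := by
  refine sect_ext ((loc_pair (K := K) f.fn (resIdx f M u i).2.1 (resIdx f N u j).2.1).mono ?_)
  rintro U₁ g ⟨W, k, l₁, l₂, h₁, h₂⟩
  rw [β_spec ρ (resIdx f M u i) (resIdx f N u j) g W k l₁ l₂ h₁ h₂, ← ModSiteFlat.rmap_comp]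
  exact β_spec ρ i j (g ≫ u) W k l₁ l₂ (h₁.trans (assoc _ _ _).symm) (h₂.trans (assoc _ _ _).symm)

lemma β_same {U : C} {W : D} (k : U ⟶ f.fn.obj W) (m : ModSite.sect M W) (n : ModSite.sect N W) :
    β ρ ⟨W, k, m⟩ ⟨W, k, n⟩ = bK ρ k m n := by
  refine sect_ext (Loc.of_forall fun U' g => ?_)
  rw [β_spec ρ ⟨W, k, m⟩ ⟨W, k, n⟩ g W (g ≫ k) (𝟙 _) (𝟙 _) (by simp) (by simp), bK_res,
    ← bK_comp, CategoryTheory.Functor.map_id, comp_id]

/-- the bilinear extension -/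
noncomputable def Λ (U : C) : (Idx f M U →₀ O_C.obj.obj (op U)) →ₗ[O_C.obj.obj (op U)]
    (Idx f N U →₀ O_C.obj.obj (op U)) →ₗ[O_C.obj.obj (op U)] ModSite.sect G U :=
  Finsupp.linearCombination _ fun i => Finsupp.linearCombination _ fun j => β ρ i j

lemma Λ_single (U : C) (i : Idx f M U) (j : Idx f N U) (a b : O_C.obj.obj (op U)) :
    Λ ρ U (Finsupp.single i a) (Finsupp.single j b) = a • b • β ρ i j := by
  simp [Λ]

lemma Λ_rel_left {U : C} {z : Idx f M U →₀ O_C.obj.obj (op U)} (hz : z ∈ Rel f M U) (j : Idx f N U) :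
    Λ ρ U z (Finsupp.single j 1) = 0 := by
  let L : (Idx f M U →₀ O_C.obj.obj (op U)) →ₗ[O_C.obj.obj (op U)] ModSite.sect G U :=
    (LinearMap.applyₗ (Finsupp.single j 1)).comp (Λ ρ U)
  suffices h : Rel f M U ≤ LinearMap.ker L from LinearMap.mem_ker.1 (h hz)
  refine Submodule.span_le.2 fun z hz => LinearMap.mem_ker.2 ?_
  rcases hz with ⟨V, g, m, m', rfl⟩ | ⟨V, g, a, m, rfl⟩ | ⟨V, V', h, g, m, rfl⟩ <;>
    simp only [L, LinearMap.comp_apply, LinearMap.applyₗ_apply_apply, map_sub, LinearMap.sub_apply, Λ_single, one_smul]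
  · rw [sub_sub, sub_eq_zero]
    refine sect_ext ((loc_pair (K := K) f.fn g j.2.1).mono ?_)
    rintro U₁ u ⟨W, k, l₁, l₂, h₁, h₂⟩
    rw [map_add, β_spec ρ ⟨V, g, m + m'⟩ j u W k l₁ l₂ h₁ h₂, β_spec ρ ⟨V, g, m⟩ j u W k l₁ l₂ h₁ h₂,
      β_spec ρ ⟨V, g, m'⟩ j u W k l₁ l₂ h₁ h₂, map_add, bK_add_left]
  · rw [sub_eq_zero]
    refine sect_ext ((loc_pair (K := K) f.fn g j.2.1).mono ?_)
    rintro U₁ u ⟨W, k, l₁, l₂, h₁, h₂⟩
    rw [ModSiteFlat.rmap_smul, β_spec ρ ⟨V, g, a • m⟩ j u W k l₁ l₂ h₁ h₂, β_spec ρ ⟨V, g, m⟩ j u W k l₁ l₂ h₁ h₂,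
      ModSiteFlat.rmap_smul, bK_smul_left, sc_res, ← sc_comp, h₁]
  · rw [sub_eq_zero]
    refine sect_ext ((loc_pair (K := K) f.fn g j.2.1).mono ?_)
    rintro U₁ u ⟨W, k, l₁, l₂, h₁, h₂⟩
    rw [β_spec ρ ⟨V', g, ModSiteFlat.rmap M h m⟩ j u W k l₁ l₂ h₁ h₂,
      β_spec ρ ⟨V, g ≫ f.fn.map h, m⟩ j u W k (l₁ ≫ h) l₂ (by simp [reassoc_of% h₁]) h₂, ModSiteFlat.rmap_comp]

lemma Λ_rel_right {U : C} {z : Idx f N U →₀ O_C.obj.obj (op U)} (hz : z ∈ Rel f N U) (i : Idx f M U) :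
    Λ ρ U (Finsupp.single i 1) z = 0 := by
  suffices h : Rel f N U ≤ LinearMap.ker (Λ ρ U (Finsupp.single i 1)) from LinearMap.mem_ker.1 (h hz)
  refine Submodule.span_le.2 fun z hz => LinearMap.mem_ker.2 ?_
  rcases hz with ⟨V, g, m, m', rfl⟩ | ⟨V, g, a, m, rfl⟩ | ⟨V, V', h, g, m, rfl⟩ <;>
    simp only [map_sub, Λ_single, one_smul]
  · rw [sub_sub, sub_eq_zero]
    refine sect_ext ((loc_pair (K := K) f.fn i.2.1 g).mono ?_)
    rintro U₁ u ⟨W, k, l₁, l₂, h₁, h₂⟩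
    rw [map_add, β_spec ρ i ⟨V, g, m + m'⟩ u W k l₁ l₂ h₁ h₂, β_spec ρ i ⟨V, g, m⟩ u W k l₁ l₂ h₁ h₂,
      β_spec ρ i ⟨V, g, m'⟩ u W k l₁ l₂ h₁ h₂, map_add, bK_add_right]
  · rw [sub_eq_zero]
    refine sect_ext ((loc_pair (K := K) f.fn i.2.1 g).mono ?_)
    rintro U₁ u ⟨W, k, l₁, l₂, h₁, h₂⟩
    rw [ModSiteFlat.rmap_smul, β_spec ρ i ⟨V, g, a • m⟩ u W k l₁ l₂ h₁ h₂, β_spec ρ i ⟨V, g, m⟩ u W k l₁ l₂ h₁ h₂,
      ModSiteFlat.rmap_smul, bK_smul_right, sc_res, ← sc_comp, h₂]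
  · rw [sub_eq_zero]
    refine sect_ext ((loc_pair (K := K) f.fn i.2.1 g).mono ?_)
    rintro U₁ u ⟨W, k, l₁, l₂, h₁, h₂⟩
    rw [β_spec ρ i ⟨V', g, ModSiteFlat.rmap N h m⟩ u W k l₁ l₂ h₁ h₂,
      β_spec ρ i ⟨V, g ≫ f.fn.map h, m⟩ u W k l₁ (l₂ ≫ h) h₁ (by simp [reassoc_of% h₂]), ModSiteFlat.rmap_comp]

lemma Λ_eq_zero_left {U : C} {z : Idx f M U →₀ O_C.obj.obj (op U)} (hz : evalU f M U z = 0)
    (w : Idx f N U →₀ O_C.obj.obj (op U)) : Λ ρ U z w = 0 := by
  induction w using Finsupp.induction_linear with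
  | zero => exact map_zero _
  | add a b ha hb => rw [map_add, ha, hb, add_zero]
  | single j b =>
    rw [← mul_one b, ← smul_eq_mul, ← Finsupp.smul_single, map_smul, Λ_rel_left ρ (mem_rel_of_evalU_eq_zero f M hz), smul_zero]

lemma Λ_eq_zero_right {U : C} {z : Idx f N U →₀ O_C.obj.obj (op U)} (hz : evalU f N U z = 0)
    (w : Idx f M U →₀ O_C.obj.obj (op U)) : Λ ρ U w z = 0 := by
  induction w using Finsupp.induction_linear with
  | zero => simp
  | add a b ha hb => rw [map_add, LinearMap.add_apply, ha, hb, add_zero]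
  | single i b =>
    rw [← mul_one b, ← smul_eq_mul, ← Finsupp.smul_single, map_smul, LinearMap.smul_apply,
      Λ_rel_right ρ (mem_rel_of_evalU_eq_zero f N hz), smul_zero]

lemma Λ_congr {U : C} {z z' : Idx f M U →₀ O_C.obj.obj (op U)} {w w' : Idx f N U →₀ O_C.obj.obj (op U)}
    (hz : evalU f M U z = evalU f M U z') (hw : evalU f N U w = evalU f N U w') : Λ ρ U z w = Λ ρ U z' w' := by
  have h₁ := Λ_eq_zero_left ρ (z := z - z') (by rw [map_sub, hz, sub_self]) w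
  have h₂ := Λ_eq_zero_right ρ (z := w - w') (by rw [map_sub, hw, sub_self]) z'
  rw [map_sub, LinearMap.sub_apply, sub_eq_zero] at h₁
  rw [map_sub, sub_eq_zero] at h₂
  exact h₁.trans h₂

/-- the bilinear map on inverse images -/
noncomputable def εfun (U : C) (x : (PQ f M).obj (op U)) (y : (PQ f N).obj (op U)) : ModSite.sect G U :=
  Λ ρ U (evalU_surjective f M U x).choose (evalU_surjective f N U y).choose

lemma εfun_eval {U : C} (z : Idx f M U →₀ O_C.obj.obj (op U)) (w : Idx f N U →₀ O_C.obj.obj (op U)) :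
    εfun ρ U (evalU f M U z) (evalU f N U w) = Λ ρ U z w :=
  Λ_congr ρ (evalU_surjective f M U (evalU f M U z)).choose_spec (evalU_surjective f N U (evalU f N U w)).choose_spec

lemma Λ_res {U U' : C} (u : U' ⟶ U) (z : Idx f M U →₀ O_C.obj.obj (op U)) (w : Idx f N U →₀ O_C.obj.obj (op U)) :
    ModSiteFlat.rmap G u (Λ ρ U z w) = Λ ρ U' (resF f M u z) (resF f N u w) := by
  induction z using Finsupp.induction_linear with
  | zero => simp
  | add a b ha hb => simp only [map_add, LinearMap.add_apply, ha, hb]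
  | single i a =>
    induction w using Finsupp.induction_linear with
    | zero => simp
    | add c d hc hd => simp only [map_add, hc, hd]
    | single j b => simp only [resF_single, Λ_single, ModSiteFlat.rmap_smul, β_res]

/-- the map on tensor products -/
noncomputable def εU (U : C) : (QTen f M N).obj (op U) ⟶ G.val.obj (op U) :=
  ModuleCat.MonoidalCategory.tensorLift (fun x y => εfun ρ U x y)
    (fun x x' y => by
      obtain ⟨z, rfl⟩ := evalU_surjective f M U x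
      obtain ⟨z', rfl⟩ := evalU_surjective f M U x'
      obtain ⟨w, rfl⟩ := evalU_surjective f N U y
      erw [← map_add (evalU f M U), εfun_eval, εfun_eval, εfun_eval, map_add]
      rfl)
    (fun r x y => by
      obtain ⟨z, rfl⟩ := evalU_surjective f M U x
      obtain ⟨w, rfl⟩ := evalU_surjective f N U y
      erw [← (evalU f M U).map_smul r z, εfun_eval, εfun_eval, map_smul]
      rfl)
    (fun x y y' => by
      obtain ⟨z, rfl⟩ := evalU_surjective f M U x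
      obtain ⟨w, rfl⟩ := evalU_surjective f N U y
      obtain ⟨w', rfl⟩ := evalU_surjective f N U y'
      erw [← map_add (evalU f N U), εfun_eval, εfun_eval, εfun_eval, map_add])
    (fun r x y => by
      obtain ⟨z, rfl⟩ := evalU_surjective f M U x
      obtain ⟨w, rfl⟩ := evalU_surjective f N U y
      erw [← (evalU f N U).map_smul r w, εfun_eval, εfun_eval, map_smul])

/-- the extension of a bilinear map to inverse images -/
noncomputable def εQ : QTen f M N ⟶ G.val where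
  app U := εU ρ U.unop
  naturality {U V} h := ModuleCat.MonoidalCategory.tensor_ext fun x y => by
    obtain ⟨z, rfl⟩ := evalU_surjective f M U.unop x
    obtain ⟨w, rfl⟩ := evalU_surjective f N U.unop y
    change εfun ρ V.unop ((PQ f M).map h.unop.op (evalU f M U.unop z)) ((PQ f N).map h.unop.op (evalU f N U.unop w)) =
      ModSiteFlat.rmap G h.unop (εfun ρ U.unop (evalU f M U.unop z) (evalU f N U.unop w))
    rw [evalU_res, evalU_res, εfun_eval, εfun_eval, Λ_res]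

lemma εQ_gev {U : C} {W : D} (k : U ⟶ f.fn.obj W) (m : ModSite.sect M W) (n : ModSite.sect N W) :
    (εQ ρ).app (op U) (gev f M ⟨W, k, m⟩ ⊗ₜ gev f N ⟨W, k, n⟩) = bK ρ k m n := by
  have h₁ : gev f M ⟨W, k, m⟩ = evalU f M U (Finsupp.single ⟨W, k, m⟩ 1) := by simp [evalU]
  have h₂ : gev f N ⟨W, k, n⟩ = evalU f N U (Finsupp.single ⟨W, k, n⟩ 1) := by simp [evalU]
  change εfun ρ U (gev f M ⟨W, k, m⟩) (gev f N ⟨W, k, n⟩) = _
  rw [h₁, h₂, εfun_eval, Λ_single, one_smul, one_smul, β_same]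

omit ρ in
lemma gev_res {U U' : C} (u : U' ⟶ U) (i : Idx f M U) :
    (PQ f M).map u.op (gev f M i) = gev f M (resIdx f M u i) :=
  pq_map_map f M _ _ _

omit ρ in
lemma gev_rmap {U : C} {V W : D} (k : U ⟶ f.fn.obj W) (l : W ⟶ V) (m : ModSite.sect M V) :
    gev f M ⟨V, k ≫ f.fn.map l, m⟩ = gev f M ⟨W, k, ModSiteFlat.rmap M l m⟩ := by
  simp only [gev, ← ηQ_res]
  exact (pq_map_map f M _ _ _).symm

omit ρ in
lemma εQ_ext {φ ψ : QTen f M N ⟶ G.val}
    (h : ∀ (U : C) (W : D) (k : U ⟶ f.fn.obj W) (m : ModSite.sect M W) (n : ModSite.sect N W),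
      φ.app (op U) (gev f M ⟨W, k, m⟩ ⊗ₜ gev f N ⟨W, k, n⟩) = ψ.app (op U) (gev f M ⟨W, k, m⟩ ⊗ₜ gev f N ⟨W, k, n⟩)) :
    φ = ψ := by
  refine PresheafOfModules.hom_ext fun U => ModuleCat.MonoidalCategory.tensor_ext fun x y => ?_
  obtain ⟨U⟩ := U
  have key : ∀ (i : Idx f M U) (j : Idx f N U),
      φ.app (op U) (gev f M i ⊗ₜ gev f N j) = ψ.app (op U) (gev f M i ⊗ₜ gev f N j) := by
    intro i j
    refine sect_ext (G := G) ((loc_pair (K := K) f.fn i.2.1 j.2.1).mono ?_)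
    rintro U' u ⟨W, k, l₁, l₂, h₁, h₂⟩
    have e : ∀ χ : QTen f M N ⟶ G.val, ModSiteFlat.rmap G u (χ.app (op U) (gev f M i ⊗ₜ gev f N j)) =
        χ.app (op U') (gev f M ⟨W, k, ModSiteFlat.rmap M l₁ i.2.2⟩ ⊗ₜ gev f N ⟨W, k, ModSiteFlat.rmap N l₂ j.2.2⟩) := by
      intro χ
      refine (PresheafOfModules.naturality_apply χ u.op _).symm.trans (congrArg _ ?_)
      refine (PresheafOfModules.Monoidal.tensorObj_map_tmul (M₁ := PQ f M) (M₂ := PQ f N) u.op _ _).trans ?_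
      erw [gev_res, gev_res, resIdx, resIdx, ← h₁, ← h₂, gev_rmap, gev_rmap]
      rfl
    rw [e φ, e ψ]
    exact h _ _ _ _ _
  obtain ⟨z, rfl⟩ := evalU_surjective f M U x
  obtain ⟨w, rfl⟩ := evalU_surjective f N U y
  induction z using Finsupp.induction_linear with
  | zero =>
    erw [map_zero, TensorProduct.zero_tmul, map_zero, map_zero]
  | add a b ha hb =>
    erw [map_add, TensorProduct.add_tmul, map_add, map_add]
    exact congrArg₂ (· + ·) ha hb
  | single i a =>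
    induction w using Finsupp.induction_linear with
    | zero =>
      erw [map_zero, TensorProduct.tmul_zero, map_zero, map_zero]
    | add c d hc hd =>
      erw [map_add, TensorProduct.tmul_add, map_add, map_add]
      exact congrArg₂ (· + ·) hc hd
    | single j b =>
      simp only [evalU, Finsupp.linearCombination_single]
      erw [TensorProduct.smul_tmul_smul a b (gev f M i) (gev f N j), (φ.app (op U)).hom.map_smul,
        (ψ.app (op U)).hom.map_smul, key i j]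
      rfl

end Groth.Agent.PullFlat
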