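import Groth.Agent.PullFlat.SlicePull
import Mathlib.Algebra.Category.ModuleCat.Sheaf.Quasicoherent
import Mathlib.Algebra.Category.ModuleCat.Sheaf.LocallyFree

/-!
Inverse images preserve quasi-coherence, finite type, finite presentation and local freeness.
-/

set_option backward.isDefEq.respectTransparency false
set_option backward.isDefEq.respectTransparency.types false
set_option autoImplicit false

universe u

namespace Groth.Agent.PullFlat

open CategoryTheory Limits Opposite

variable {C : Type u} [SmallCategory C] {J : GrothendieckTopology C} {O_C : Sheaf J CommRingCat.{u}}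
  {D : Type u} [SmallCategory D] {K : GrothendieckTopology D} {O_D : Sheaf K CommRingCat.{u}}
  (f : ModSite.RMor O_C O_D)

instance colimits_pullV (V : D) : PreservesColimitsOfSize.{u, u} (pullV f V) :=
  (adjV f V).leftAdjoint_preservesColimits

/-- the functor of slices is final -/
lemma final_post (V : D) : (Over.post (X := V) f.fn).Final where
  out d := by
    let T : Over V := Over.mk (𝟙 V)
    have : Nonempty (StructuredArrow d (Over.post (X := V) f.fn)) :=
      ⟨StructuredArrow.mk (Y := T) (Over.homMk d.hom (by
        change d.hom ≫ f.fn.map (𝟙 V) = d.hom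
        rw [f.fn.map_id, Category.comp_id]))⟩
    refine zigzag_isConnected fun x y => ?_
    have key : ∀ z : StructuredArrow d (Over.post (X := V) f.fn), Zigzag z
        (StructuredArrow.mk (Y := T) (Over.homMk d.hom (by
        change d.hom ≫ f.fn.map (𝟙 V) = d.hom
        rw [f.fn.map_id, Category.comp_id]))) := fun z =>
      Relation.ReflTransGen.single (Or.inl ⟨StructuredArrow.homMk (Over.homMk z.right.hom (by change z.right.hom ≫ 𝟙 V = _; rw [Category.comp_id])) (by
        ext
        exact Over.w z.hom)⟩)
    exact (key x).trans (key y).symm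

/-- the unit on the slice -/
noncomputable def pullVUnit (V : D) :
    ModSite.unit (O_C.over (f.fn.obj V)) ≅ (pullV f V).obj (ModSite.unit (O_D.over V)) :=
  haveI := final_post f V
  (asIso (SheafOfModules.pullbackObjUnitToUnit (φV f V))).symm

/-- pulled back covers cover -/
lemma coversTop_fn {ι : Type*} {X : ι → D} (hX : K.CoversTop X) : J.CoversTop fun i => f.fn.obj (X i) := fun U => by
  have : PreservesFiniteLimits (pb J K f.fn) := f.exact
  obtain ⟨S, hS, hS'⟩ := (loc_nonempty (K := K) f.fn U).bind (Q := fun U' _ => ∃ i, Nonempty (U' ⟶ f.fn.obj (X i)))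
    (fun U' g hg => by
      obtain ⟨W, ⟨k⟩⟩ := hg
      refine (loc_lift (J := J) (K := K) f.fn k (hX W)).mono ?_
      rintro U'' g' ⟨T, r, k', ⟨i, ⟨a⟩⟩, -⟩
      exact ⟨i, ⟨k' ≫ f.fn.map a⟩⟩)
  exact J.superset_covering (fun Y g hg => (Sieve.mem_ofObjects_iff ..).2 (hS' g hg)) hS

variable {F : ModSite.Mod O_D}

/-- pulled back generators -/
noncomputable def pullGen {V : D}
    (G : SheafOfModules.GeneratingSections (R := ModSite.ringSh (O_D.over V)) ((ModSite.restr O_D V).obj F)) :
    SheafOfModules.GeneratingSections (R := ModSite.ringSh (O_C.over (f.fn.obj V)))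
      ((ModSite.restr O_C (f.fn.obj V)).obj (f.pull.obj F)) :=
  haveI : PreservesColimitsOfSize.{0, 0} (pullV f V) := preservesSmallestColimits_of_preservesColimits _
  (G.map (pullV f V) (pullVUnit f V)).ofEpi (pullRestrIso f V F).hom

theorem isFiniteType_pull [SheafOfModules.IsFiniteType (R := ModSite.ringSh O_D) F] :
    SheafOfModules.IsFiniteType (R := ModSite.ringSh O_C) (f.pull.obj F) := by
  obtain ⟨q, hq⟩ := SheafOfModules.IsFiniteType.exists_localGeneratorsData F
  let q' : SheafOfModules.LocalGeneratorsData.{u} (R := ModSite.ringSh O_C) (f.pull.obj F) :=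
    { I := q.I
      X := fun i => f.fn.obj (q.X i)
      coversTop := coversTop_fn f q.coversTop
      generators := fun i => pullGen f (q.generators i) }
  refine { exists_localGeneratorsData := ⟨q', { isFiniteType := fun i => ?_ }⟩ }
  exact { finite := (hq.isFiniteType i).finite }

theorem isLocallyFree_pull [SheafOfModules.IsLocallyFree (R := ModSite.ringSh O_D) F] :
    SheafOfModules.IsLocallyFree (R := ModSite.ringSh O_C) (f.pull.obj F) := by
  obtain ⟨q, hq⟩ := SheafOfModules.IsLocallyFree.exists_isLocallyFreeData (M := F)
  let q' : SheafOfModules.LocalGeneratorsData.{u} (R := ModSite.ringSh O_C) (f.pull.obj F) :=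
    { I := q.I
      X := fun i => f.fn.obj (q.X i)
      coversTop := coversTop_fn f q.coversTop
      generators := fun i => pullGen f (q.generators i) }
  refine { exists_isLocallyFreeData := ⟨q', { isIso := fun i => ?_ }⟩ }
  have := hq.isIso i
  have : PreservesColimitsOfSize.{0, 0} (pullV f (q.X i)) := preservesSmallestColimits_of_preservesColimits _
  change IsIso (SheafOfModules.GeneratingSections.π (pullGen f (q.generators i)))
  unfold pullGen
  rw [SheafOfModules.GeneratingSections.ofEpi_π]
  have : IsIso ((q.generators i).map (pullV f (q.X i)) (pullVUnit f (q.X i))).π := by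
    have h := Equiv.symm_apply_apply (SheafOfModules.freeHomEquiv ((pullV f (q.X i)).obj _))
      ((q.generators i).mapFreeHom (pullV f (q.X i)) (pullVUnit f (q.X i)))
    change IsIso ((SheafOfModules.freeHomEquiv _).symm _)
    erw [h]
    unfold SheafOfModules.GeneratingSections.mapFreeHom
    infer_instance
  infer_instance

/-- pulled back presentation -/
noncomputable def pullPres {V : D}
    (P : SheafOfModules.Presentation (R := ModSite.ringSh (O_D.over V)) ((ModSite.restr O_D V).obj F)) :
    SheafOfModules.Presentation (R := ModSite.ringSh (O_C.over (f.fn.obj V)))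
      ((ModSite.restr O_C (f.fn.obj V)).obj (f.pull.obj F)) :=
  haveI : PreservesColimitsOfSize.{0, 0} (pullV f V) := preservesSmallestColimits_of_preservesColimits _
  (P.map (pullV f V) (pullVUnit f V)).ofIsIso (pullRestrIso f V F).hom

/-- pulled back quasi-coherence data -/
noncomputable def pullQcd (q : SheafOfModules.QuasicoherentData.{u} (R := ModSite.ringSh O_D) F) :
    SheafOfModules.QuasicoherentData.{u} (R := ModSite.ringSh O_C) (f.pull.obj F) where
  I := q.I
  X i := f.fn.obj (q.X i)
  coversTop := coversTop_fn f q.coversTop
  presentation i := pullPres f (q.presentation i)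

theorem isQuasicoherent_pull [SheafOfModules.IsQuasicoherent (R := ModSite.ringSh O_D) F] :
    SheafOfModules.IsQuasicoherent (R := ModSite.ringSh O_C) (f.pull.obj F) :=
  { nonempty_quasicoherentData := ⟨pullQcd f SheafOfModules.IsQuasicoherent.nonempty_quasicoherentData.some⟩ }

theorem isFinitePresentation_pull [SheafOfModules.IsFinitePresentation (R := ModSite.ringSh O_D) F] :
    SheafOfModules.IsFinitePresentation (R := ModSite.ringSh O_C) (f.pull.obj F) := by
  obtain ⟨q, hq⟩ := SheafOfModules.IsFinitePresentation.exists_quasicoherentData F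
  refine { exists_quasicoherentData := ⟨pullQcd f q, { isFinite_presentation := fun i => ?_ }⟩ }
  have := hq.isFinite_presentation i
  exact { isFiniteType_generators := { finite := (this.isFiniteType_generators).finite }
          isFiniteType_relations := { finite := (this.isFiniteType_relations).finite } }

end Groth.Agent.PullFlat
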