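import Groth.Agent.PullFlat.Flat
import Groth.Agent.PullRing.Ring

/-!
Flat morphisms of ringed sites have exact inverse image of modules.
-/

set_option backward.isDefEq.respectTransparency false
set_option backward.isDefEq.respectTransparency.types false
set_option linter.style.haveILetI false
set_option autoImplicit false
set_option maxHeartbeats 2000000

universe u

open CategoryTheory Category Limits Opposite

namespace Groth.Agent.PullFlat

attribute [local instance] ModSiteFlat.instModuleSect instModulePQ instModulePM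

variable {C D : Type u} [SmallCategory C] [SmallCategory D] {J : GrothendieckTopology C} {K : GrothendieckTopology D}
variable {O_C : Sheaf J CommRingCat.{u}} {O_D : Sheaf K CommRingCat.{u}} (f : ModSite.RMor O_C O_D)

/-- the image of a function downstairs in the inverse image of rings -/
noncomputable abbrev imR {U : C} {W : D} (k : U ⟶ f.fn.obj W) (b : O_D.obj.obj (op W)) :
    f.invRing.obj.obj (op U) :=
  PullRing.im _ (PullRing.unitR J f.fn O_D) k b

lemma invSharp_imR {U : C} {W : D} (k : U ⟶ f.fn.obj W) (b : O_D.obj.obj (op W)) :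
    (f.invSharp.hom.app (op U)).hom (imR f k b) = sc f k b := by
  have h := Equiv.apply_symm_apply ((f.fn.sheafAdjunctionContinuous CommRingCat.{u} K J).homEquiv O_D O_C) f.sharp
  rw [Adjunction.homEquiv_unit] at h
  have h' := ConcreteCategory.congr_hom (congrArg (fun τ : O_D ⟶ _ => τ.hom.app (op W)) h) b
  refine (NatTrans.naturality_apply f.invSharp.hom k.op _).trans ?_
  exact congrArg (O_C.obj.map k.op).hom h'

variable [PreservesFiniteLimits (pb J K f.fn)]

lemma loc_reps {U : C} {W : D} (k : U ⟶ f.fn.obj W) {α : Type*} [DecidableEq α] (Φ : Finset α)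
    (x : α → f.invRing.obj.obj (op U)) :
    Loc J U fun U' g => ∃ (W' : D) (r : W' ⟶ W) (k' : U' ⟶ f.fn.obj W'), k' ≫ f.fn.map r = g ≫ k ∧
      ∀ a ∈ Φ, ∃ m, (f.invRing.obj.map g.op).hom (x a) = imR f k' m := by
  induction Φ using Finset.induction with
  | empty =>
    exact Loc.of_forall fun U' g => ⟨W, 𝟙 W, g ≫ k, by simp, fun a ha => absurd ha (Finset.notMem_empty a)⟩
  | @insert a Φ _ ih =>
    refine ih.bind ?_
    rintro U₁ g ⟨W₁, r, k₁, e, h₁⟩
    refine (PullRing.invRing_loc_surj J f.fn O_D ((f.invRing.obj.map g.op).hom (x a))).bind ?_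
    rintro U₂ g' ⟨W₂, k₂, m, hm⟩
    refine (loc_pair (K := K) f.fn (g' ≫ k₁) k₂).mono ?_
    rintro U₃ g'' ⟨W₃, k₃, l₁, l₂, e₁, e₂⟩
    refine ⟨W₃, l₁ ≫ r, k₃, by rw [Functor.map_comp, reassoc_of% e₁, e]; simp, fun b hb => ?_⟩
    have hcomp : ∀ y, (f.invRing.obj.map (g'' ≫ g' ≫ g).op).hom y =
        (f.invRing.obj.map g''.op).hom ((f.invRing.obj.map g'.op).hom ((f.invRing.obj.map g.op).hom y)) := fun y => by
      simp
    rw [assoc]
    rcases Finset.mem_insert.1 hb with rfl | hb'
    · refine ⟨(O_D.obj.map l₂.op).hom m, ?_⟩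
      rw [hcomp, hm]
      simp only [imR, PullRing.im_map, PullRing.im_res]
      rw [e₂]
    · obtain ⟨m', hm'⟩ := h₁ b hb'
      refine ⟨(O_D.obj.map l₁.op).hom m', ?_⟩
      rw [hcomp, hm']
      simp only [imR, PullRing.im_map, PullRing.im_res]
      rw [e₁]

lemma loc_zeros {U : C} {W : D} (k : U ⟶ f.fn.obj W) {α : Type*} [DecidableEq α] (Φ : Finset α)
    (m : α → O_D.obj.obj (op W)) (h : ∀ a ∈ Φ, imR f k (m a) = 0) :
    Loc J U fun U' g => ∃ (W' : D) (r : W' ⟶ W) (k' : U' ⟶ f.fn.obj W'), k' ≫ f.fn.map r = g ≫ k ∧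
      ∀ a ∈ Φ, (O_D.obj.map r.op).hom (m a) = 0 := by
  induction Φ using Finset.induction with
  | empty =>
    exact Loc.of_forall fun U' g => ⟨W, 𝟙 W, g ≫ k, by simp, fun a ha => absurd ha (Finset.notMem_empty a)⟩
  | @insert a Φ _ ih =>
    refine (ih fun b hb => h b (Finset.mem_insert_of_mem hb)).bind ?_
    rintro U₁ g ⟨W₁, r, k₁, e, h₁⟩
    have h0 : imR f k₁ ((O_D.obj.map r.op).hom (m a)) = imR f k₁ 0 := by
      simp only [imR, PullRing.im_map]
      rw [e, ← PullRing.im_res]
      rw [show PullRing.im _ (PullRing.unitR J f.fn O_D) k (m a) = 0 from h a (Finset.mem_insert_self a Φ)]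
      simp [PullRing.im]
    refine (PullRing.invRing_loc_inj J f.fn O_D k₁ _ _ h0).mono ?_
    rintro U₂ g' ⟨W₂, r', k₂, e₂, h₂⟩
    refine ⟨W₂, r' ≫ r, k₂, by rw [Functor.map_comp, reassoc_of% e₂, e]; simp, fun b hb => ?_⟩
    rw [op_comp, Functor.map_comp, CommRingCat.comp_apply]
    rcases Finset.mem_insert.1 hb with rfl | hb'
    · rw [h₂, map_zero]
    · rw [h₁ b hb', map_zero]

/-- flatness of the structure sheaf over the inverse image ring, in terms of relations downstairs -/
theorem loc_triv_base (hf : ModSite.IsFlat f.baseMod) {U : C} {W : D} (k : U ⟶ f.fn.obj W)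
    {κ : Type} [Fintype κ] {ε : Type*} (T : Finset ε) (B : ε → κ → O_D.obj.obj (op W)) (c : κ → O_C.obj.obj (op U))
    (h : ∀ e ∈ T, ∑ j, sc f k (B e j) * c j = 0) :
    Loc J U fun U' g => ∃ (W' : D) (r : W' ⟶ W) (k' : U' ⟶ f.fn.obj W') (p : ℕ) (d : Fin p → O_C.obj.obj (op U'))
      (β : κ → Fin p → O_D.obj.obj (op W')),
      k' ≫ f.fn.map r = g ≫ k ∧ (∀ j, (O_C.obj.map g.op).hom (c j) = ∑ l, sc f k' (β j l) * d l) ∧
      ∀ e ∈ T, ∀ l, ∑ j, (O_D.obj.map r.op).hom (B e j) * β j l = 0 := by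
  classical
  have hrel : ∀ e ∈ T, ∑ j, imR f k (B e j) • (show ModSite.sect f.baseMod U from c j) = 0 := fun e he => by
    refine Eq.trans ?_ (h e he)
    refine Finset.sum_congr rfl fun j _ => ?_
    show (f.invSharp.hom.app (op U)).hom (imR f k (B e j)) * c j = _
    rw [invSharp_imR]
  obtain ⟨S, hS, hS'⟩ := ModSiteFlat.exists_cover_solution (ModSiteFlat.hasLocalTriv_of_isFlat hf)
    (fun j => (show ModSite.sect f.baseMod U from c j)) T (fun e j => imR f k (B e j)) hrel
  refine (Loc.of_mem hS).bind fun U₁ g hg => ?_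
  obtain ⟨p, t, γ, ht, hγ⟩ := hS' g hg
  refine (loc_reps f (g ≫ k) (Finset.univ : Finset (κ × Fin p)) fun a => γ a.1 a.2).bind ?_
  rintro U₂ g' ⟨W₁, r, k₁, e, hm⟩
  choose m hm using fun j l => hm (j, l) (Finset.mem_univ (j, l))
  have hzero : ∀ a ∈ T ×ˢ (Finset.univ : Finset (Fin p)),
      imR f k₁ (∑ j, (O_D.obj.map r.op).hom (B a.1 j) * m j a.2) = 0 := by
    rintro ⟨x, l⟩ ha
    have hx := congrArg (f.invRing.obj.map g'.op).hom (hγ x (Finset.mem_product.1 ha).1 l)
    rw [map_sum, map_zero] at hx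
    refine Eq.trans ?_ hx
    simp only [imR, PullRing.im, map_sum, map_mul]
    refine Finset.sum_congr rfl fun j _ => ?_
    refine congrArg₂ (· * ·) ?_ (hm j l).symm
    show PullRing.im _ (PullRing.unitR J f.fn O_D) k₁ ((O_D.obj.map r.op).hom (B x j)) =
      (f.invRing.obj.map g'.op).hom ((f.invRing.obj.map g.op).hom (PullRing.im _ (PullRing.unitR J f.fn O_D) k (B x j)))
    rw [PullRing.im_map, e, PullRing.im_res, PullRing.im_res]
  refine (loc_zeros f k₁ _ _ hzero).mono ?_
  rintro U₃ g'' ⟨W₂, r', k₂, e₂, h₂⟩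
  refine ⟨W₂, r' ≫ r, k₂, p, fun l => (O_C.obj.map (g'' ≫ g').op).hom (show O_C.obj.obj (op U₁) from t l),
    fun j l => (O_D.obj.map r'.op).hom (m j l), by rw [Functor.map_comp, reassoc_of% e₂, e]; simp, fun j => ?_,
    fun x hx l => ?_⟩
  · have h1 : (O_C.obj.map g.op).hom (c j) =
        ∑ l, (f.invSharp.hom.app (op U₁)).hom (γ j l) * (show O_C.obj.obj (op U₁) from t l) := ht j
    rw [show (g'' ≫ g') ≫ g = g'' ≫ g' ≫ g from assoc _ _ _, ← assoc, op_comp, Functor.map_comp, CommRingCat.comp_apply,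
      h1, map_sum]
    refine Finset.sum_congr rfl fun l _ => ?_
    rw [map_mul]
    refine congrArg (· * _) ?_
    rw [← NatTrans.naturality_apply f.invSharp.hom (g'' ≫ g').op (γ j l)]
    refine Eq.trans ?_ ((invSharp_imR f (g'' ≫ k₁) (m j l)).trans ?_)
    · refine congrArg _ ?_
      rw [op_comp, Functor.map_comp]
      exact (congrArg (f.invRing.obj.map g''.op).hom (hm j l)).trans (PullRing.im_res _ _ _ _ _)
    · rw [← sc_comp, e₂]
  · have h3 := h₂ (x, l) (Finset.mem_product.2 ⟨hx, Finset.mem_univ l⟩)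
    rw [map_sum] at h3
    refine Eq.trans (Finset.sum_congr rfl fun j _ => ?_) h3
    rw [map_mul, op_comp, Functor.map_comp]
    rfl

section Mono

variable {f} {M N : ModSite.Mod O_D} (φ : M ⟶ N)

/-- the map on presheaf inverse images -/
noncomputable abbrev pqMap : PQ f M ⟶ PQ f N := (PresheafOfModules.pullback.{u} f.sharpR.hom).map φ.val

/-- the map on generators -/
def idxMap {U : C} (i : Idx f M U) : Idx f N U := ⟨i.1, i.2.1, φ.val.app (op i.1) i.2.2⟩

lemma pqMap_gev {U : C} (i : Idx f M U) :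
    (pqMap φ).app (op U) (gev f M i) = gev f N (idxMap φ i) := by
  obtain ⟨V, g, m⟩ := i
  refine (PresheafOfModules.naturality_apply (pqMap φ) g.op _).trans ?_
  refine congrArg ((PQ f N).map g.op).hom ?_
  exact (ConcreteCategory.congr_hom (congrArg (fun τ : M.val ⟶ _ => τ.app (op V))
    ((PresheafOfModules.pullbackPushforwardAdjunction.{u} f.sharpR.hom).unit.naturality φ.val)) m).symm

lemma pqMap_evalU {U : C} (z : Idx f M U →₀ O_C.obj.obj (op U)) :
    (pqMap φ).app (op U) (evalU f M U z) = evalU f N U (Finsupp.mapDomain (idxMap φ) z) := by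
  induction z using Finsupp.induction_linear with
  | zero => simp
  | add a b ha hb => simp only [map_add, Finsupp.mapDomain_add, ha, hb]
  | single i a =>
    simp only [evalU, Finsupp.mapDomain_single, Finsupp.linearCombination_single]
    rw [← pqMap_gev]
    exact ((pqMap φ).app (op U)).hom.map_smul a _

lemma pqMap_evW {U : C} {W : D} (k : U ⟶ f.fn.obj W) (x : ModSite.sect M W →₀ O_C.obj.obj (op U)) :
    (pqMap φ).app (op U) (evW k x) = evW k (Finsupp.mapDomain (φ.val.app (op W)).hom x) := by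
  induction x using Finsupp.induction_linear with
  | zero => simp
  | add a b ha hb => simp only [map_add, Finsupp.mapDomain_add, ha, hb]
  | single m a =>
    simp only [evW, Finsupp.mapDomain_single, Finsupp.linearCombination_single]
    refine (((pqMap φ).app (op U)).hom.map_smul a _).trans ?_
    exact congrArg (a • ·) (pqMap_gev φ ⟨W, k, m⟩)

lemma gev_sum_smul {U : C} {W : D} (k : U ⟶ f.fn.obj W) {α : Type*} (S : Finset α) (a : α → O_D.obj.obj (op W))
    (m : α → ModSite.sect M W) :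
    gev f M (⟨W, k, ∑ i ∈ S, a i • m i⟩ : Idx f M U) = ∑ i ∈ S, sc f k (a i) • gev f M ⟨W, k, m i⟩ := by
  simp only [gev]
  rw [show ηQ f M W (∑ i ∈ S, a i • m i) = ∑ i ∈ S, ηQ f M W (a i • m i) from
    map_sum (AddMonoidHom.mk' (ηQ f M W) (ηQ_add f M W)) _ _]
  refine (map_sum ((PQ f M).map k.op).hom _ _).trans (Finset.sum_congr rfl fun i _ => ?_)
  rw [ηQ_smul]
  exact pq_map_smul f M k _ _

lemma evW_loc_zero (hf : ModSite.IsFlat f.baseMod) (hφ : ∀ W, Function.Injective (φ.val.app (op W)))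
    {U : C} {W : D} (k : U ⟶ f.fn.obj W) (x : ModSite.sect M W →₀ O_C.obj.obj (op U))
    (hx : Finsupp.mapDomain (φ.val.app (op W)).hom x ∈ Z f N k) :
    Loc J U fun U' g => (show (PQ f M).obj (op U') from (PQ f M).map g.op (evW k x)) = 0 := by
  classical
  obtain ⟨c, hc⟩ := Finsupp.mem_span_range_iff_exists_finsupp.1 hx
  let P : ModSite.sect M W → ModSite.sect N W := fun m => φ.val.app (op W) m
  let S₀ : Finset (ModSite.sect N W) := x.support.image P
  let A : Finset (ModSite.sect N W) := S₀ ∪ c.support.biUnion fun e => e.1.support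
  let E := c.support.equivFin
  let e : Fin c.support.card → (ModSite.sect N W →₀ O_D.obj.obj (op W)) := fun j => (E.symm j).1.1
  have he : ∀ j, ∑ n ∈ A, e j n • n = 0 := fun j => by
    refine Eq.trans ?_ (LinearMap.mem_ker.1 (E.symm j).1.2)
    rw [Finsupp.linearCombination_apply, Finsupp.sum]
    exact (Finset.sum_subset (fun n hn => Finset.mem_union_right _ (Finset.mem_biUnion.2 ⟨_, (E.symm j).2, hn⟩))
      fun n _ hn => by rw [Finsupp.notMem_support_iff.1 hn, zero_smul]).symm
  have hcn : ∀ n, Finsupp.mapDomain P x n = ∑ j, sc f k (e j n) * c (E.symm j).1 := by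
    intro n
    have := congrArg (fun w : ModSite.sect N W →₀ O_C.obj.obj (op U) => w n) hc
    simp only [Finsupp.sum, Finsupp.finset_sum_apply, Finsupp.smul_apply, Finsupp.mapRange_apply, smul_eq_mul] at this
    refine this.symm.trans (Eq.trans ?_ (Equiv.sum_comp E.symm fun a => sc f k (a.1.1 n) * c a.1).symm)
    refine Eq.trans ?_ (Finset.sum_coe_sort c.support fun a => sc f k (a.1 n) * c a).symm
    exact Finset.sum_congr rfl fun a _ => mul_comm _ _
  refine (loc_triv_base f hf k (A \ S₀) (fun n j => e j n) (fun j => c (E.symm j).1) fun n hn => ?_).mono ?_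
  · rw [← hcn]
    refine Finsupp.notMem_support_iff.1 fun h => (Finset.mem_sdiff.1 hn).2 ?_
    exact Finsupp.mapDomain_support h
  rintro U' g ⟨W', r, k', p, d, β, hk', hc', hβ⟩
  let γ : Fin p → ModSite.sect N W → O_D.obj.obj (op W') := fun l n => ∑ j, (O_D.obj.map r.op).hom (e j n) * β j l
  have hM0 : ∀ l, ∑ m ∈ x.support, γ l (P m) • ModSiteFlat.rmap M r m = 0 := by
    intro l
    apply hφ W'
    refine Eq.trans ?_ (map_zero (φ.val.app (op W')).hom).symm
    refine (map_sum (φ.val.app (op W')).hom _ _).trans ?_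
    refine Eq.trans (Finset.sum_congr rfl fun m _ =>
      show _ = γ l (P m) • ModSiteFlat.rmap N r (P m) from
        ((φ.val.app (op W')).hom.map_smul (γ l (P m)) _).trans
          (congrArg (γ l (P m) • ·) (PresheafOfModules.naturality_apply φ.val r.op m))) ?_
    rw [← Finset.sum_image (g := P) (f := fun n => γ l n • ModSiteFlat.rmap N r n)
      (fun a _ b _ h => hφ W h)]
    have hA : ∑ n ∈ A, γ l n • ModSiteFlat.rmap N r n = 0 := by
      simp only [γ, Finset.sum_smul]
      rw [Finset.sum_comm]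
      refine Finset.sum_eq_zero fun j _ => ?_
      have h1 : ∑ n ∈ A, (O_D.obj.map r.op).hom (e j n) • ModSiteFlat.rmap N r n = 0 := by
        have := congrArg (ModSiteFlat.rmap N r) (he j)
        rw [map_sum, map_zero] at this
        exact (Finset.sum_congr rfl fun n _ => (ModSiteFlat.rmap_smul N r _ _).symm).trans this
      refine Eq.trans ?_ (smul_zero (β j l))
      rw [← h1, Finset.smul_sum]
      exact Finset.sum_congr rfl fun n _ => by rw [smul_smul, mul_comm]
    refine Eq.trans ?_ hA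
    refine Finset.sum_subset Finset.subset_union_left fun n hn hn' => ?_
    rw [show γ l n = 0 from hβ n (Finset.mem_sdiff.2 ⟨hn, hn'⟩) l, zero_smul]
  have hcoef : ∀ m, (O_C.obj.map g.op).hom (x m) = ∑ l, d l * sc f k' (γ l (P m)) := by
    intro m
    rw [← Finsupp.mapDomain_apply (f := P) (hφ W) x m, hcn, map_sum]
    simp only [γ, map_mul, map_sum, hc', Finset.mul_sum]
    rw [Finset.sum_comm]
    refine Finset.sum_congr rfl fun l _ => Finset.sum_congr rfl fun j _ => ?_
    rw [sc_res, ← sc_comp, hk']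
    ring
  have h2 : (show (PQ f M).obj (op U') from (PQ f M).map g.op (evW k x)) =
      ∑ m ∈ x.support, (O_C.obj.map g.op).hom (x m) • gev f M (⟨W', k', ModSiteFlat.rmap M r m⟩ : Idx f M U') := by
    rw [← evW_resV k g r k' hk']
    conv_lhs => rw [← x.sum_single]
    simp only [Finsupp.sum, map_sum]
    refine Finset.sum_congr rfl fun m _ => ?_
    simp only [resV, LinearMap.coe_mk, AddHom.coe_mk, Finsupp.mapRange_single, Finsupp.mapDomain_single, evW,
      Finsupp.linearCombination_single]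
  rw [h2]
  simp only [hcoef, Finset.sum_smul, mul_smul]
  rw [Finset.sum_comm]
  refine Finset.sum_eq_zero fun l _ => ?_
  rw [← Finset.smul_sum, ← gev_sum_smul, hM0 l]
  have h0 : gev f M (⟨W', k', 0⟩ : Idx f M U') = 0 := by
    have := gev_sum_smul (f := f) (M := M) k' (∅ : Finset Unit) (fun _ => 0) (fun _ => 0)
    simpa using this
  rw [h0, smul_zero]

lemma pqMap_locallyInjective_of
    (key : ∀ {U : C} {W : D} (k : U ⟶ f.fn.obj W) (x : ModSite.sect M W →₀ O_C.obj.obj (op U)),
      Finsupp.mapDomain (φ.val.app (op W)).hom x ∈ Z f N k →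
        Loc J U fun U' g => (show (PQ f M).obj (op U') from (PQ f M).map g.op (evW k x)) = 0) :
    Presheaf.IsLocallyInjective J ((PresheafOfModules.toPresheaf _).map (pqMap (f := f) φ)) := by
  classical
  refine ⟨fun {X} q₁ q₂ hq => ?_⟩
  obtain ⟨U⟩ := X
  let q : (PQ f M).obj (op U) := (show (PQ f M).obj (op U) from q₁) - (show (PQ f M).obj (op U) from q₂)
  have hq0 : (pqMap φ).app (op U) q = 0 := by
    refine (map_sub ((pqMap φ).app (op U)).hom _ _).trans ?_
    exact sub_eq_zero.2 hq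
  suffices h : Loc J U fun U' g => (show (PQ f M).obj (op U') from (PQ f M).map g.op q) = 0 by
    obtain ⟨S, hS, hS'⟩ := h
    refine J.superset_covering (fun V g hg => ?_) hS
    exact sub_eq_zero.1 ((map_sub ((PQ f M).map g.op).hom _ _).symm.trans (hS' g hg))
  obtain ⟨z, hz⟩ := evalU_surjective f M U q
  refine (loc_dat (f := f) (M := M) z.support).bind ?_
  rintro U₁ g ⟨d⟩
  let x := d.img z
  have hxq : evW d.k x = (show (PQ f M).obj (op U₁) from (PQ f M).map g.op q) := by
    rw [evW_img d (Finset.Subset.refl _), hz]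
  let xN : ModSite.sect N d.W →₀ O_C.obj.obj (op U₁) := Finsupp.mapDomain (φ.val.app (op d.W)).hom x
  have hxN : evW d.k xN = 0 := by
    rw [← pqMap_evW, hxq]
    refine (PresheafOfModules.naturality_apply (pqMap φ) g.op q).trans ?_
    exact (congrArg ((PQ f N).map g.op).hom hq0).trans (map_zero _)
  let w : Idx f N U₁ →₀ O_C.obj.obj (op U₁) := Finsupp.mapDomain (fun n => ⟨d.W, d.k, n⟩) xN
  have hw : evalU f N U₁ w = 0 := by
    refine Eq.trans ?_ hxN
    simp only [w, evalU, evW, Finsupp.linearCombination_mapDomain]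
    rfl
  obtain ⟨Φ, hsupp, hΦ⟩ := null_of_mem_rel (mem_rel_of_evalU_eq_zero f N hw)
  refine (loc_dat (f := f) (M := N) Φ).bind ?_
  rintro U₂ g₁ ⟨d₀⟩
  refine (loc_pair (K := K) f.fn (g₁ ≫ d.k) d₀.k).bind ?_
  rintro U₃ g₂ ⟨W₁, k₁, l, l₀, e, e₀⟩
  let G : U₃ ⟶ U₁ := g₂ ≫ g₁
  have eG : k₁ ≫ f.fn.map l = G ≫ d.k := by simp only [G, assoc]; exact e
  let L : ∀ i ∈ Φ, W₁ ⟶ i.1 := fun i hi =>
    if h : ∃ n, i = (⟨d.W, d.k, n⟩ : Idx f N U₁) then l ≫ eqToHom (congrArg Sigma.fst h.choose_spec).symm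
    else l₀ ≫ d₀.l i hi
  have hL : ∀ (i : Idx f N U₁) (hi : i ∈ Φ), k₁ ≫ f.fn.map (L i hi) = G ≫ i.2.1 := by
    intro i hi
    by_cases h : ∃ n, i = (⟨d.W, d.k, n⟩ : Idx f N U₁)
    · simp only [L, dif_pos h]
      obtain ⟨n, rfl⟩ := h
      simp [eG]
    · simp only [L, dif_neg h, Functor.map_comp, reassoc_of% e₀, d₀.fac, G, assoc]
  let d₁ : Dat f N Φ G := ⟨W₁, k₁, L, hL⟩
  have himg : d₁.img w = resV N G l xN := by
    suffices key : ∀ n (a : O_C.obj.obj (op U₁)), n ∈ xN.support →
        d₁.img (Finsupp.single (⟨d.W, d.k, n⟩ : Idx f N U₁) a) = resV N G l (Finsupp.single n a) by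
      simp only [w]
      conv_lhs => rw [← xN.sum_single]
      conv_rhs => rw [← xN.sum_single]
      simp only [Finsupp.sum, Finsupp.mapDomain_finset_sum, Finsupp.mapDomain_single, map_sum]
      exact Finset.sum_congr rfl fun n hn => key n (xN n) hn
    intro n a hn
    have hmem : (⟨d.W, d.k, n⟩ : Idx f N U₁) ∈ Φ := by
      refine hsupp (Finsupp.mem_support_iff.2 ?_)
      simp only [w]
      rw [Finsupp.mapDomain_apply (fun a b hab => by
        have h1 := eq_of_heq (Sigma.mk.inj hab).2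
        exact congrArg Prod.snd h1)]
      exact Finsupp.mem_support_iff.1 hn
    rw [d₁.img_single hmem]
    simp only [resV, LinearMap.coe_mk, AddHom.coe_mk, Finsupp.mapRange_single, Finsupp.mapDomain_single]
    simp only [d₁, L]
    rw [dif_pos ⟨n, rfl⟩]
    simp
  refine (hΦ G d₁).bind ?_
  rintro U₄ g₃ ⟨W₂, r, k₂, e₃, hmem⟩
  rw [himg] at hmem
  have e3' : k₂ ≫ f.fn.map (r ≫ l) = (g₃ ≫ G) ≫ d.k := by
    rw [Functor.map_comp, reassoc_of% (e₃ : k₂ ≫ f.fn.map r = g₃ ≫ k₁), eG]
    exact (Category.assoc _ _ _).symm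
  have hmem' : Finsupp.mapDomain (φ.val.app (op W₂)).hom (resV M (g₃ ≫ G) (r ≫ l) x) ∈ Z f N k₂ := by
    refine Eq.mp (congrArg (fun y => y ∈ Z f N k₂) ?_) hmem
    refine (resV_resV (M := N) G g₃ l r xN).trans ?_
    simp only [xN, resV, LinearMap.coe_mk, AddHom.coe_mk]
    rw [← Finsupp.mapDomain_mapRange _ _ _ (map_zero _) (map_add _), ← Finsupp.mapDomain_comp,
      ← Finsupp.mapDomain_comp]
    congr 1
    funext m
    exact (PresheafOfModules.naturality_apply φ.val (r ≫ l).op m).symm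
  refine (key k₂ _ hmem').mono fun U₅ g₄ h5 => ?_
  rw [evW_resV d.k (g₃ ≫ G) (r ≫ l) k₂ e3', hxq] at h5
  refine Eq.trans ?_ h5
  simp only [G, pq_map_map]
  rw [show (((g₄ ≫ g₃) ≫ g₂) ≫ g₁) ≫ g = g₄ ≫ (g₃ ≫ g₂ ≫ g₁) ≫ g by simp only [Category.assoc]]

lemma pqMap_locallyInjective (hf : ModSite.IsFlat f.baseMod) (hφ : ∀ W, Function.Injective (φ.val.app (op W))) :
    Presheaf.IsLocallyInjective J ((PresheafOfModules.toPresheaf _).map (pqMap (f := f) φ)) :=
  pqMap_locallyInjective_of φ fun k x hx => evW_loc_zero φ hf hφ k x hx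

end Mono

/-- a flat morphism of ringed sites has exact inverse image -/
theorem isFlat_of_baseMod (hf : ModSite.IsFlat f.baseMod) : f.IsFlat := by
  haveI : f.pull.IsLeftAdjoint := f.adj.isLeftAdjoint
  haveI : PreservesColimitsOfSize.{0, 0} f.pull := f.adj.leftAdjoint_preservesColimits
  haveI : PreservesBinaryBiproducts f.pull := preservesBinaryBiproducts_of_preservesBinaryCoproducts f.pull
  haveI : f.pull.Additive := Functor.additive_of_preservesBinaryBiproducts f.pull
  haveI : f.pull.PreservesMonomorphisms := ⟨fun {M N} φ hφ => by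
    have hinj : ∀ W, Function.Injective (φ.val.app (op W)) := fun W => by
      haveI : PreservesFiniteLimits (SheafOfModules.forget (ModSite.ringSh O_D)) := inferInstance
      haveI : Mono φ.val := (SheafOfModules.forget (ModSite.ringSh O_D)).map_mono φ
      exact PresheafOfModules.injective_of_mono φ.val (op W)
    have hb := pqMap_locallyInjective (f := f) φ hf hinj
    rw [← Presheaf.isLocallyInjective_presheafToSheaf_map_iff] at hb
    haveI : Mono ((SheafOfModules.toSheaf.{u} (ModSite.ringSh O_C)).map ((ModSiteExt.Sh O_C).map (pqMap (f := f) φ))) :=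
      Sheaf.mono_of_isLocallyInjective ((presheafToSheaf J AddCommGrpCat.{u}).map
        ((PresheafOfModules.toPresheaf _).map (pqMap (f := f) φ)))
    haveI : Mono ((ModSiteExt.Sh O_C).map (pqMap (f := f) φ)) :=
      (SheafOfModules.toSheaf.{u} (ModSite.ringSh O_C)).mono_of_mono_map (f := (ModSiteExt.Sh O_C).map (pqMap (f := f) φ)) this
    let e := SheafOfModules.pullbackIso.{u} f.sharpR
    have : f.pull.map φ = e.hom.app M ≫ (ModSiteExt.Sh O_C).map (pqMap (f := f) φ) ≫ e.inv.app N := by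
      have h := e.hom.naturality φ
      erw [← reassoc_of% h]
      simp
    rw [this]
    infer_instance⟩
  haveI : f.pull.PreservesHomology := Functor.preservesHomology_of_preservesMonos_and_cokernels _
  exact f.pull.preservesFiniteLimits_of_preservesHomology

end Groth.Agent.PullFlat
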