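import Groth.Agent.PullFlat.Formal

/-!
Inverse images of flat modules on ringed sites are flat.
-/

set_option backward.isDefEq.respectTransparency false
set_option backward.isDefEq.respectTransparency.types false
set_option linter.style.haveILetI false
set_option autoImplicit false
set_option maxHeartbeats 1000000

universe u

open CategoryTheory Category Limits Opposite

namespace Groth.Agent.PullFlat

attribute [local instance] ModSiteFlat.instModuleSect

section Sheafify

variable {C : Type u} [SmallCategory C] {J : GrothendieckTopology C} {O : Sheaf J CommRingCat.{u}}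

noncomputable local instance instModulePM (Q : ModSiteExt.PM O.obj) (U : C) :
    Module (O.obj.obj (op U) : Type u) (Q.obj (op U)) :=
  (Q.obj (op U)).isModule

/-- Every relation is locally trivial. -/
def PreLocTriv (Q : ModSiteExt.PM O.obj) : Prop :=
  ∀ (U : C) (n : ℕ) (b : Fin n → O.obj.obj (op U)) (q : Fin n → Q.obj (op U)), ∑ j, b j • q j = 0 →
    Loc J U fun V g => ∃ (l : ℕ) (t : Fin l → Q.obj (op V)) (a : Fin n → Fin l → O.obj.obj (op V)),
      (∀ j, (Q.map g.op).hom (q j) = ∑ k, a j k • t k) ∧ ∀ k, ∑ j, a j k * (O.obj.map g.op).hom (b j) = 0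

lemma map_sum_smul (Q : ModSiteExt.PM O.obj) {U V : C} (g : V ⟶ U) {κ : Type*} [Fintype κ]
    (a : κ → O.obj.obj (op U)) (x : κ → Q.obj (op U)) :
    (Q.map g.op).hom (∑ j, a j • x j) =
      ∑ j, (O.obj.map g.op).hom (a j) • (show Q.obj (op V) from (Q.map g.op).hom (x j)) :=
  (map_sum (Q.map g.op).hom _ _).trans (Finset.sum_congr rfl fun j _ => Q.map_smul g.op (a j) (x j))

lemma hasLocalTriv_sheafify {Q : ModSiteExt.PM O.obj} (hQ : PreLocTriv Q) :
    ModSiteFlat.HasLocalTriv O ((ModSiteExt.Sh O).obj Q) := by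
  classical
  let S := (ModSiteExt.Sh O).obj Q
  let η := ModSiteTensor.η O Q
  haveI := ModSiteTensor.unit_locallyInjective O Q
  haveI := ModSiteTensor.unit_locallySurjective O Q
  intro U n b s hs
  let ηm : ∀ V : C, Q.obj (op V) →ₗ[O.obj.obj (op V)] ModSite.sect S V := fun V =>
    { toFun := (η.app (op V)).hom
      map_add' := (η.app (op V)).hom.map_add
      map_smul' := (η.app (op V)).hom.map_smul }
  have hnat : ∀ {V W : C} (g : W ⟶ V) (x : Q.obj (op V)), ηm W ((Q.map g.op).hom x) = ModSiteFlat.rmap S g (ηm V x) :=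
    fun {V W} g x => PresheafOfModules.naturality_apply η g.op x
  have step1 : ∀ T : Finset (Fin n), Loc J U fun V g => ∀ j ∈ T, ∃ q : Q.obj (op V), ηm V q = ModSiteFlat.rmap S g (s j) := by
    intro T
    induction T using Finset.induction with
    | empty => exact Loc.of_forall fun V g j hj => absurd hj (Finset.notMem_empty j)
    | @insert i T _ ih =>
      refine ih.bind fun V g hg => ?_
      refine (Loc.of_mem (Presheaf.imageSieve_mem J ((PresheafOfModules.toPresheaf _).map η)
        (U := op V) (ModSiteFlat.rmap S g (s i)))).mono ?_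
      rintro W g' ⟨q, hq⟩ j hj
      rcases Finset.mem_insert.1 hj with rfl | hj
      · exact ⟨q, hq.trans (ModSiteFlat.rmap_comp S g g' _).symm⟩
      · obtain ⟨q', hq'⟩ := hg j hj
        exact ⟨(Q.map g'.op).hom q', by rw [hnat, hq', ModSiteFlat.rmap_comp]⟩
  suffices h : Loc J U fun V g => ∃ (l : ℕ) (t : Fin l → ModSite.sect S V) (a : Fin n → Fin l → O.obj.obj (op V)),
      (∀ j, (S.val.map g.op).hom (s j) = ∑ k, a j k • t k) ∧ ∀ k, ∑ j, a j k * (O.obj.map g.op).hom (b j) = 0 by
    exact h
  refine (step1 Finset.univ).bind fun V g hg => ?_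
  choose q hq using fun j => hg j (Finset.mem_univ j)
  let z : Q.obj (op V) := ∑ j, (O.obj.map g.op).hom (b j) • q j
  have hz : ηm V z = ηm V 0 := by
    simp only [z, map_sum, LinearMap.map_smul, hq, map_zero]
    rw [← ModSiteFlat.rmap_sum_smul, hs, map_zero]
  refine (Loc.of_mem (Presheaf.equalizerSieve_mem J ((PresheafOfModules.toPresheaf _).map η) (X := op V) z 0 hz)).bind
    fun W g' hg' => ?_
  have hz' : (Q.map g'.op).hom z = 0 := hg'.trans (map_zero (Q.map g'.op).hom)
  rw [map_sum_smul] at hz'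
  refine (hQ W n _ _ hz').mono ?_
  rintro X g'' ⟨l, t, a, ha, ha0⟩
  refine ⟨l, fun k => ηm X (t k), a, fun j => ?_, fun k => ?_⟩
  · change ModSiteFlat.rmap S ((g'' ≫ g') ≫ g) (s j) = _
    rw [ModSiteFlat.rmap_comp, ← hq, ModSiteFlat.rmap_comp, ← hnat, ← hnat, ha, map_sum]
    exact Finset.sum_congr rfl fun k _ => (ηm X).map_smul _ _
  · refine Eq.trans (Finset.sum_congr rfl fun j _ => ?_) (ha0 k)
    simp only [op_comp, Functor.map_comp]
    rfl

end Sheafify

variable {C D : Type u} [SmallCategory C] [SmallCategory D] {J : GrothendieckTopology C} {K : GrothendieckTopology D}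
variable {O_C : Sheaf J CommRingCat.{u}} {O_D : Sheaf K CommRingCat.{u}} {f : ModSite.RMor O_C O_D} {M : ModSite.Mod O_D}

attribute [local instance] instModulePQ instModulePM

/-- Evaluation at a common object. -/
noncomputable def evW {U : C} {W : D} (k : U ⟶ f.fn.obj W) :
    (ModSite.sect M W →₀ O_C.obj.obj (op U)) →ₗ[O_C.obj.obj (op U)] (PQ f M).obj (op U) :=
  Finsupp.linearCombination _ fun m => gev f M ⟨W, k, m⟩

lemma evW_resV {U U' : C} {W W' : D} (k : U ⟶ f.fn.obj W) (u : U' ⟶ U) (r : W' ⟶ W) (k' : U' ⟶ f.fn.obj W')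
    (h : k' ≫ f.fn.map r = u ≫ k) (x : ModSite.sect M W →₀ O_C.obj.obj (op U)) :
    evW k' (resV M u r x) = (show (PQ f M).obj (op U') from (PQ f M).map u.op (evW k x)) := by
  induction x using Finsupp.induction_linear with
  | zero =>
    simp only [map_zero]
  | add a b ha hb =>
    simp only [map_add, ha, hb]
  | single m a =>
    simp only [resV, LinearMap.coe_mk, AddHom.coe_mk, Finsupp.mapRange_single, Finsupp.mapDomain_single, evW,
      Finsupp.linearCombination_single]
    refine Eq.trans ?_ (pq_map_smul f M u a _).symm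
    congr 1
    simp only [gev]
    rw [← ηQ_res]
    exact (pq_map_map f M _ _ _).trans ((congrArg (fun c : U' ⟶ f.fn.obj W => (PQ f M).map c.op (ηQ f M W m)) h).trans
      (pq_map_map f M _ _ _).symm)

lemma evW_img {U U' : C} {Φ : Finset (Idx f M U)} {g : U' ⟶ U} (d : Dat f M Φ g)
    {z : Idx f M U →₀ O_C.obj.obj (op U)} (hz : z.support ⊆ Φ) :
    evW d.k (d.img z) = (show (PQ f M).obj (op U') from (PQ f M).map g.op (evalU f M U z)) := by
  classical
  suffices key : ∀ S ⊆ Φ, evW d.k (d.img (∑ i ∈ S, Finsupp.single i (z i))) =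
      (show (PQ f M).obj (op U') from (PQ f M).map g.op (evalU f M U (∑ i ∈ S, Finsupp.single i (z i)))) by
    have h := key _ hz
    rwa [show (∑ i ∈ z.support, Finsupp.single i (z i)) = z from z.sum_single] at h
  intro S hS
  simp only [map_sum]
  refine Finset.sum_congr rfl fun i hi => ?_
  rw [d.img_single (hS hi)]
  simp only [evW, evalU, Finsupp.linearCombination_single]
  refine Eq.trans ?_ (pq_map_smul f M g _ _).symm
  congr 1
  simp only [gev]
  rw [← ηQ_res]
  exact (pq_map_map f M _ _ _).trans ((congrArg (fun c : U' ⟶ f.fn.obj i.1 => (PQ f M).map c.op (ηQ f M i.1 i.2.2)) (d.fac i (hS hi))).trans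
    (pq_map_map f M _ _ _).symm)

variable [PreservesFiniteLimits (pb J K f.fn)]

theorem preLocTriv_pullback (hM : ModSiteFlat.HasLocalTriv O_D M) : PreLocTriv (PQ f M) := by
  classical
  intro U n b q hbq
  choose z hz using fun j => evalU_surjective f M U (q j)
  have hrel : ∑ j, b j • z j ∈ Rel f M U := by
    refine mem_rel_of_evalU_eq_zero f M ?_
    simp only [map_sum, LinearMap.map_smul, hz]
    exact hbq
  obtain ⟨Φ₀, hs₀, h₀⟩ := null_of_mem_rel hrel
  refine (loc_dat (Φ₀ ∪ Finset.univ.biUnion fun j => (z j).support)).bind ?_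
  rintro U₁ g ⟨d⟩
  refine (h₀ g (d.restrict Finset.subset_union_left)).bind ?_
  rintro U₂ g' ⟨W, r, k, e, hmem⟩
  rw [Dat.img_restrict d _ hs₀] at hmem
  let d' := d.refine g' r k e
  have hmem' : d'.img (∑ j, b j • z j) ∈ Z f M k :=
    Eq.mp (congrArg (fun x => x ∈ Z f M k) (Dat.img_refine d g' r k e _).symm) hmem
  let x : Fin n → (ModSite.sect M W →₀ O_C.obj.obj (op U₂)) := fun j => d'.img (z j)
  let B : Fin n → O_C.obj.obj (op U₂) := fun j => (O_C.obj.map (g' ≫ g).op).hom (b j)
  have hx : ∑ j, B j • x j ∈ Z f M k := by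
    refine Eq.mp (congrArg (fun y => y ∈ Z f M k) ?_) hmem'
    rw [map_sum]
    exact Finset.sum_congr rfl fun j _ => LinearMap.map_smulₛₗ d'.img _ _
  obtain ⟨c, hc⟩ := Finsupp.mem_span_range_iff_exists_finsupp.1 hx
  let T : Finset (ModSite.sect M W) :=
    (Finset.univ.biUnion fun j => (x j).support) ∪ c.support.biUnion fun e => e.1.support
  let y : Fin T.card → ModSite.sect M W := fun i => (T.equivFin.symm i).1
  have hy : ∀ {A : Type u} [AddCommMonoid A] (F : ModSite.sect M W → A), ∑ i, F (y i) = ∑ m ∈ T, F m :=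
    fun F => (Equiv.sum_comp T.equivFin.symm fun m => F m.1).trans (Finset.sum_coe_sort T F)
  obtain ⟨S, hS, hS'⟩ := ModSiteFlat.exists_cover_solution hM y c.support (fun e i => e.1 (y i)) fun e he => by
    rw [hy fun m => e.1 m • m]
    refine Eq.trans ?_ (LinearMap.mem_ker.1 e.2)
    rw [Finsupp.linearCombination_apply, Finsupp.sum]
    exact (Finset.sum_subset (fun m hm => Finset.mem_union_right _ (Finset.mem_biUnion.2 ⟨e, he, hm⟩))
      fun m _ hm => by rw [Finsupp.notMem_support_iff.1 hm, zero_smul]).symm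
  refine (loc_lift f.fn k hS).mono ?_
  rintro U₃ g'' ⟨V, r', k', hr', hk'⟩
  obtain ⟨p, t, a, ht, ha⟩ := hS' r' hr'
  let G := g'' ≫ g' ≫ g
  refine ⟨p, fun l => gev f M ⟨V, k', t l⟩,
    fun j l => ∑ i, (O_C.obj.map g''.op).hom (x j (y i)) * sc f k' (a i l), fun j => ?_, fun l => ?_⟩
  · have hsupp : (z j).support ⊆ Φ₀ ∪ Finset.univ.biUnion fun j => (z j).support :=
      fun i hi => Finset.mem_union_right _ (Finset.mem_biUnion.2 ⟨j, Finset.mem_univ j, hi⟩)
    have h1 : (show (PQ f M).obj (op U₃) from (PQ f M).map ((g'' ≫ g') ≫ g).op (q j)) =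
        evW k' (resV M g'' r' (x j)) := by
      rw [evW_resV k g'' r' k' hk']
      erw [evW_img d' hsupp]
      rw [hz, assoc]
      exact (pq_map_map f M _ _ _).symm
    refine h1.trans ?_
    have hxj : x j = ∑ i, Finsupp.single (y i) (x j (y i)) := by
      rw [hy fun m => Finsupp.single m (x j m)]
      refine ((x j).sum_single.symm.trans ?_)
      exact Finset.sum_subset (fun m hm => Finset.mem_union_left _ (Finset.mem_biUnion.2 ⟨j, Finset.mem_univ j, hm⟩))
        fun m _ hm => by rw [Finsupp.notMem_support_iff.1 hm, Finsupp.single_zero]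
    conv_lhs => rw [hxj]
    simp only [map_sum, Finset.sum_smul]
    rw [Finset.sum_comm]
    refine Finset.sum_congr rfl fun i _ => ?_
    simp only [resV, LinearMap.coe_mk, AddHom.coe_mk, Finsupp.mapRange_single, Finsupp.mapDomain_single, evW,
      Finsupp.linearCombination_single]
    rw [ht i]
    have hg : gev f M ⟨V, k', ∑ l, a i l • t l⟩ = ∑ l, sc f k' (a i l) • gev f M ⟨V, k', t l⟩ := by
      simp only [gev]
      rw [show ηQ f M V (∑ l, a i l • t l) = ∑ l, ηQ f M V (a i l • t l) from
        map_sum (AddMonoidHom.mk' (ηQ f M V) (ηQ_add f M V)) _ _]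
      refine (map_sum ((PQ f M).map k'.op).hom _ _).trans (Finset.sum_congr rfl fun l _ => ?_)
      rw [ηQ_smul]
      exact pq_map_smul f M k' _ _
    rw [hg, Finset.smul_sum]
    exact Finset.sum_congr rfl fun l _ => smul_smul _ _ _
  · have hB : ∀ j, (O_C.obj.map g''.op).hom (B j) = (O_C.obj.map ((g'' ≫ g') ≫ g).op).hom (b j) := fun j => by
      simp only [B, assoc, op_comp, Functor.map_comp]
      rfl
    refine Eq.trans (Finset.sum_congr rfl fun j _ => by rw [← hB j, Finset.sum_mul]) ?_
    rw [Finset.sum_comm]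
    have key : ∀ i, ∑ j, (O_C.obj.map g''.op).hom (x j (y i)) * sc f k' (a i l) * (O_C.obj.map g''.op).hom (B j) =
        ∑ e ∈ c.support, (O_C.obj.map g''.op).hom (c e) * sc f k' ((O_D.obj.map r'.op).hom (e.1 (y i)) * a i l) := by
      intro i
      have h2 := congrArg (fun w : ModSite.sect M W →₀ O_C.obj.obj (op U₂) => (O_C.obj.map g''.op).hom (w (y i))) hc
      simp only [Finsupp.sum, Finsupp.finset_sum_apply, Finsupp.smul_apply, Finsupp.mapRange_apply, smul_eq_mul,
        map_sum, map_mul] at h2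
      calc _ = sc f k' (a i l) * ∑ j, (O_C.obj.map g''.op).hom (B j) * (O_C.obj.map g''.op).hom (x j (y i)) := by
            rw [Finset.mul_sum]
            exact Finset.sum_congr rfl fun j _ => by ring
        _ = _ := by
            rw [← h2, Finset.mul_sum]
            refine Finset.sum_congr rfl fun e _ => ?_
            rw [sc_res, map_mul, ← sc_comp, hk']
            ring
    simp only [key]
    rw [Finset.sum_comm]
    exact Finset.sum_eq_zero fun e he => by rw [← Finset.mul_sum, ← map_sum, ha e he l, map_zero, mul_zero]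

/-- The inverse image of a flat module is flat. -/
theorem isFlat_pull (f : ModSite.RMor O_C O_D) (M : ModSite.Mod O_D) (hM : ModSite.IsFlat M) :
    ModSite.IsFlat (f.pull.obj M) := by
  haveI : PreservesFiniteLimits (pb J K f.fn) := f.exact
  have h := hasLocalTriv_sheafify (preLocTriv_pullback (f := f) (ModSiteFlat.hasLocalTriv_of_isFlat hM))
  have h' : ModSite.IsFlat ((ModSiteExt.Sh O_C).obj (PQ f M)) := ModSiteFlat.isFlat_of_hasLocalTriv h
  let e : (ModSiteExt.Sh O_C).obj (PQ f M) ≅ f.pull.obj M :=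
    ((SheafOfModules.pullbackIso.{u} f.sharpR).app M).symm
  haveI := h'.1
  haveI := h'.2
  exact ⟨preservesFiniteLimits_of_natIso ((ModSite.tensorBi O_C).flip.mapIso e),
    preservesFiniteColimits_of_natIso ((ModSite.tensorBi O_C).flip.mapIso e)⟩

end Groth.Agent.PullFlat
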