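import Groth.Agent.PullFlat.Null

/-!
The presheaf of formal sections and the presheaf inverse image.
-/

set_option backward.isDefEq.respectTransparency false
set_option backward.isDefEq.respectTransparency.types false
set_option linter.style.haveILetI false
set_option autoImplicit false
set_option maxHeartbeats 1000000

universe u

open CategoryTheory Category Limits Opposite

namespace Groth.Agent.PullFlat

attribute [local instance] ModSiteFlat.instModuleSect

variable {C D : Type u} [SmallCategory C] [SmallCategory D] {J : GrothendieckTopology C} {K : GrothendieckTopology D}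
variable {O_C : Sheaf J CommRingCat.{u}} {O_D : Sheaf K CommRingCat.{u}} (f : ModSite.RMor O_C O_D) (M : ModSite.Mod O_D)

/-- Formal sections modulo relations. -/
abbrev FQ (U : C) : Type u := (Idx f M U →₀ O_C.obj.obj (op U)) ⧸ Rel f M U

/-- The presheaf of groups of formal sections. -/
noncomputable def fqPresheaf : Cᵒᵖ ⥤ AddCommGrpCat.{u} where
  obj U := AddCommGrpCat.of (FQ f M U.unop)
  map {U U'} u := AddCommGrpCat.ofHom
    (Submodule.mapQ (Rel f M U.unop) (Rel f M U'.unop) (resF f M u.unop) (rel_res f M u.unop)).toAddMonoidHom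
  map_id U := by
    ext x
    obtain ⟨z, rfl⟩ := Submodule.mkQ_surjective _ x
    change Submodule.Quotient.mk (resF f M (𝟙 U.unop) z) = Submodule.Quotient.mk z
    congr 1
    induction z using Finsupp.induction_linear with
    | zero => simp
    | add a b ha hb => simp only [map_add, ha, hb]
    | single i a =>
      erw [resF_single]
      simp [resIdx]
  map_comp {U V W} u v := by
    ext x
    obtain ⟨z, rfl⟩ := Submodule.mkQ_surjective _ x
    change Submodule.Quotient.mk (resF f M (v.unop ≫ u.unop) z) =
      Submodule.Quotient.mk (resF f M v.unop (resF f M u.unop z))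
    congr 1
    induction z using Finsupp.induction_linear with
    | zero => simp
    | add a b ha hb => simp only [map_add, ha, hb]
    | single i a =>
      erw [resF_single, resF_single, resF_single]
      simp [resIdx]

noncomputable instance (U : Cᵒᵖ) :
    Module ((O_C.obj ⋙ forget₂ CommRingCat.{u} RingCat.{u}).obj U) ((fqPresheaf f M).obj U) :=
  inferInstanceAs (Module (O_C.obj.obj (op U.unop) : Type u) (FQ f M U.unop))

/-- The presheaf of modules of formal sections. -/
noncomputable def FP : ModSiteExt.PM O_C.obj :=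
  PresheafOfModules.ofPresheaf (fqPresheaf f M) fun U V a r x =>
    (Submodule.mapQ (Rel f M U.unop) (Rel f M V.unop) (resF f M a.unop) (rel_res f M a.unop)).map_smulₛₗ r x

/-- The class of a formal section. -/
noncomputable def fmk (U : C) : (Idx f M U →₀ O_C.obj.obj (op U)) →+ (FP f M).obj (op U) :=
  (Submodule.mkQ (Rel f M U)).toAddMonoidHom

lemma fmk_res {U U' : C} (u : U' ⟶ U) (z : Idx f M U →₀ O_C.obj.obj (op U)) :
    (FP f M).map u.op (fmk f M U z) = fmk f M U' (resF f M u z) := rfl

lemma fmk_smul {U : C} (c : O_C.obj.obj (op U)) (z : Idx f M U →₀ O_C.obj.obj (op U)) :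
    fmk f M U (c • z) = (show (O_C.obj ⋙ forget₂ CommRingCat.{u} RingCat.{u}).obj (op U) from c) • fmk f M U z :=
  (Submodule.mkQ (Rel f M U)).map_smul c z

lemma fmk_eq_zero {U : C} {z : Idx f M U →₀ O_C.obj.obj (op U)} (h : fmk f M U z = 0) : z ∈ Rel f M U :=
  (Submodule.Quotient.mk_eq_zero _).1 h

lemma sub_eq_of_rel {U : C} {a b : Idx f M U →₀ O_C.obj.obj (op U)} (h : a - b ∈ relSet f M U) :
    fmk f M U a = fmk f M U b :=
  (Submodule.Quotient.eq _).2 (Submodule.subset_span h)

/-- The universal map to the direct image of formal sections. -/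
noncomputable def fη : M.val ⟶ (PresheafOfModules.pushforward.{u} f.sharpR.hom).obj (FP f M) :=
  PresheafOfModules.homMk
    { app := fun V => AddCommGrpCat.ofHom (AddMonoidHom.mk'
        (fun m : ModSite.sect M V.unop =>
          fmk f M (f.fn.obj V.unop) (Finsupp.single ⟨V.unop, 𝟙 _, m⟩ 1))
        (fun m m' => (Submodule.Quotient.eq _).2 (Submodule.subset_span (Or.inl ⟨V.unop, 𝟙 _, m, m',
          (sub_sub _ _ _).symm⟩))))
      naturality := fun V V' h => by
        ext m
        change fmk f M _ (Finsupp.single ⟨V'.unop, 𝟙 _, ModSiteFlat.rmap M h.unop m⟩ 1) =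
          fmk f M _ (resF f M (f.fn.map h.unop) (Finsupp.single ⟨V.unop, 𝟙 _, m⟩ 1))
        refine (sub_eq_of_rel f M (Or.inr (Or.inr ⟨V.unop, V'.unop, h.unop, 𝟙 _, m, ?_⟩))).symm
        simp [resIdx] }
    fun V a m => by
      change fmk f M _ (Finsupp.single ⟨V.unop, 𝟙 _, (show O_D.obj.obj V from a) • (show ModSite.sect M V.unop from m)⟩ 1) =
        fmk f M _ ((show O_C.obj.obj (op (f.fn.obj V.unop)) from (f.sharp.hom.app V).hom a) • Finsupp.single ⟨V.unop, 𝟙 _, m⟩ (1 : O_C.obj.obj (op (f.fn.obj V.unop))))
      refine sub_eq_of_rel f M (Or.inr (Or.inl ⟨V.unop, 𝟙 _, a, m, ?_⟩))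
      simp [sc]
      rfl

/-- The presheaf inverse image. -/
noncomputable abbrev PQ : ModSiteExt.PM O_C.obj := (PresheafOfModules.pullback.{u} f.sharpR.hom).obj M.val

/-- The unit of the presheaf inverse image on sections. -/
noncomputable def ηQ (V : D) (m : ModSite.sect M V) : (PQ f M).obj (op (f.fn.obj V)) :=
  ((PresheafOfModules.pullbackPushforwardAdjunction.{u} f.sharpR.hom).unit.app M.val).app (op V) m

lemma ηQ_res {V W : D} (r : W ⟶ V) (m : ModSite.sect M V) :
    (PQ f M).map (f.fn.map r).op (ηQ f M V m) = ηQ f M W (ModSiteFlat.rmap M r m) :=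
  (PresheafOfModules.naturality_apply ((PresheafOfModules.pullbackPushforwardAdjunction.{u} f.sharpR.hom).unit.app M.val) r.op m).symm

lemma ηQ_add (V : D) (m m' : ModSite.sect M V) : ηQ f M V (m + m') = ηQ f M V m + ηQ f M V m' :=
  map_add (((PresheafOfModules.pullbackPushforwardAdjunction.{u} f.sharpR.hom).unit.app M.val).app (op V)).hom m m'

lemma ηQ_smul (V : D) (a : O_D.obj.obj (op V)) (m : ModSite.sect M V) :
    ηQ f M V (a • m) =
      (show (O_C.obj ⋙ forget₂ CommRingCat.{u} RingCat.{u}).obj (op (f.fn.obj V)) from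
        (f.sharp.hom.app (op V)).hom a) • ηQ f M V m :=
  (((PresheafOfModules.pullbackPushforwardAdjunction.{u} f.sharpR.hom).unit.app M.val).app (op V)).hom.map_smul a m

noncomputable local instance instModulePQ (U : C) : Module (O_C.obj.obj (op U) : Type u) ((PQ f M).obj (op U)) :=
  ((PQ f M).obj (op U)).isModule

/-- The section of a generator. -/
noncomputable def gev {U : C} (i : Idx f M U) : (PQ f M).obj (op U) := (PQ f M).map i.2.1.op (ηQ f M i.1 i.2.2)

/-- Evaluation of formal sections. -/
noncomputable def evalU (U : C) : (Idx f M U →₀ O_C.obj.obj (op U)) →ₗ[O_C.obj.obj (op U)] (PQ f M).obj (op U) :=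
  Finsupp.linearCombination _ (gev f M)

lemma pq_map_smul {U U' : C} (u : U' ⟶ U) (c : O_C.obj.obj (op U)) (x : (PQ f M).obj (op U)) :
    (PQ f M).map u.op (c • x) = (O_C.obj.map u.op).hom c • (show (PQ f M).obj (op U') from (PQ f M).map u.op x) :=
  (PQ f M).map_smul u.op c x

lemma pq_map_map {U U' U'' : C} (u : U' ⟶ U) (u' : U'' ⟶ U') (x : (PQ f M).obj (op U)) :
    (PQ f M).map u'.op ((PQ f M).map u.op x) = (PQ f M).map (u' ≫ u).op x :=
  ((PQ f M).map_comp_apply u.op u'.op x).symm

lemma evalU_res {U U' : C} (u : U' ⟶ U) (z : Idx f M U →₀ O_C.obj.obj (op U)) :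
    (PQ f M).map u.op (evalU f M U z) = evalU f M U' (resF f M u z) := by
  induction z using Finsupp.induction_linear with
  | zero =>
    simp only [map_zero]
  | add a b ha hb =>
    simp only [map_add, ← ha, ← hb]
  | single i a =>
    simp only [resF_single, evalU, Finsupp.linearCombination_single]
    rw [pq_map_smul]
    exact congrArg _ (pq_map_map f M _ _ _)

lemma evalU_rel (U : C) : Rel f M U ≤ LinearMap.ker (evalU f M U) := by
  refine Submodule.span_le.2 fun z hz => LinearMap.mem_ker.2 ?_
  rcases hz with ⟨V, g, m, m', rfl⟩ | ⟨V, g, a, m, rfl⟩ | ⟨V, V', h, g, m, rfl⟩ <;>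
    simp only [evalU, map_sub, Finsupp.linearCombination_single, one_smul, gev]
  · rw [ηQ_add, sub_sub, sub_eq_zero]
    exact map_add ((PQ f M).map g.op).hom _ _
  · rw [ηQ_smul, sub_eq_zero]
    exact pq_map_smul f M g _ _
  · rw [← ηQ_res, pq_map_map, sub_self]

/-- The map from formal sections. -/
noncomputable def σ : FP f M ⟶ PQ f M :=
  PresheafOfModules.homMk
    { app := fun U => AddCommGrpCat.ofHom ((Rel f M U.unop).liftQ (evalU f M U.unop) (evalU_rel f M U.unop)).toAddMonoidHom
      naturality := fun U U' u => by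
        ext x
        obtain ⟨z, rfl⟩ := Submodule.mkQ_surjective _ x
        exact (evalU_res f M u.unop z).symm }
    fun U c x => ((Rel f M U.unop).liftQ (evalU f M U.unop) (evalU_rel f M U.unop)).map_smul c x

/-- The map to formal sections. -/
noncomputable def θ : PQ f M ⟶ FP f M :=
  ((PresheafOfModules.pullbackPushforwardAdjunction.{u} f.sharpR.hom).homEquiv M.val (FP f M)).symm (fη f M)

lemma θ_ηQ (V : D) (m : ModSite.sect M V) :
    (θ f M).app (op (f.fn.obj V)) (ηQ f M V m) = fmk f M (f.fn.obj V) (Finsupp.single ⟨V, 𝟙 _, m⟩ 1) := by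
  let adj := PresheafOfModules.pullbackPushforwardAdjunction.{u} f.sharpR.hom
  have h : adj.unit.app M.val ≫ (PresheafOfModules.pushforward.{u} f.sharpR.hom).map (θ f M) = fη f M := by
    erw [← adj.homEquiv_unit]
    exact Equiv.apply_symm_apply _ _
  exact ConcreteCategory.congr_hom (congrArg (fun τ : M.val ⟶ _ => τ.app (op V)) h) m

lemma θ_evalU {U : C} (z : Idx f M U →₀ O_C.obj.obj (op U)) : (θ f M).app (op U) (evalU f M U z) = fmk f M U z := by
  induction z using Finsupp.induction_linear with
  | zero => simp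
  | add a b ha hb => simp only [map_add, ha, hb]
  | single i a =>
    simp only [evalU, Finsupp.linearCombination_single, gev]
    refine (((θ f M).app (op U)).hom.map_smul a _).trans ?_
    erw [PresheafOfModules.naturality_apply, θ_ηQ, fmk_res, resF_single, map_one]
    refine (fmk_smul f M a _).symm.trans (congrArg _ ?_)
    rw [Finsupp.smul_single, smul_eq_mul, mul_one]
    simp [resIdx]

lemma θ_σ : θ f M ≫ σ f M = 𝟙 (PQ f M) := by
  let adj := PresheafOfModules.pullbackPushforwardAdjunction.{u} f.sharpR.hom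
  apply (adj.homEquiv M.val (PQ f M)).injective
  rw [adj.homEquiv_naturality_right, adj.homEquiv_id]
  rw [show adj.homEquiv M.val (FP f M) (θ f M) = fη f M from Equiv.apply_symm_apply _ _]
  ext V m
  change evalU f M (f.fn.obj V.unop) (Finsupp.single ⟨V.unop, 𝟙 _, m⟩ 1) = ηQ f M V.unop m
  simp only [evalU, Finsupp.linearCombination_single, one_smul, gev, op_id]
  exact PresheafOfModules.congr_map_apply (PQ f M) rfl _ |>.trans (congrArg _ rfl) |>.trans
    (ConcreteCategory.congr_hom ((PQ f M).map_id _) _)

lemma evalU_surjective (U : C) : Function.Surjective (evalU f M U) := fun q => by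
  obtain ⟨z, hz⟩ := Submodule.mkQ_surjective (Rel f M U) ((θ f M).app (op U) q)
  refine ⟨z, ?_⟩
  have h := ConcreteCategory.congr_hom (congrArg (fun τ : PQ f M ⟶ PQ f M => τ.app (op U)) (θ_σ f M)) q
  refine Eq.trans ?_ h
  change _ = (σ f M).app (op U) ((θ f M).app (op U) q)
  rw [← hz]
  rfl

lemma mem_rel_of_evalU_eq_zero {U : C} {z : Idx f M U →₀ O_C.obj.obj (op U)} (h : evalU f M U z = 0) :
    z ∈ Rel f M U :=
  fmk_eq_zero f M (by rw [← θ_evalU, h, map_zero])

end Groth.Agent.PullFlat
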