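import Groth.Agent.PullFlat.Local
import Groth.Agent.ModSiteFlat.Criterion
import Mathlib.Algebra.Category.ModuleCat.Sheaf.PullbackContinuous

/-!
Formal sections of inverse images and their local triviality.
-/

set_option backward.isDefEq.respectTransparency false
set_option backward.isDefEq.respectTransparency.types false
set_option linter.style.haveILetI false
set_option autoImplicit false
set_option maxHeartbeats 1000000

universe u

open CategoryTheory Category Limits Opposite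

namespace Groth.Agent.PullFlat

attribute [local instance] ModSiteFlat.instModuleSect

variable {C D : Type u} [SmallCategory C] [SmallCategory D] {J : GrothendieckTopology C} {K : GrothendieckTopology D}
variable {O_C : Sheaf J CommRingCat.{u}} {O_D : Sheaf K CommRingCat.{u}} (f : ModSite.RMor O_C O_D) (M : ModSite.Mod O_D)

/-- Formal generators. -/
def Idx (U : C) : Type u := Σ V : D, (U ⟶ f.fn.obj V) × ModSite.sect M V

/-- The ring map along a map into an image. -/
noncomputable def sc {U : C} {V : D} (g : U ⟶ f.fn.obj V) : O_D.obj.obj (op V) →+* O_C.obj.obj (op U) :=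
  (O_C.obj.map g.op).hom.comp (f.sharp.hom.app (op V)).hom

lemma sc_res {U U' : C} {V : D} (u : U' ⟶ U) (g : U ⟶ f.fn.obj V) (a : O_D.obj.obj (op V)) :
    (O_C.obj.map u.op).hom (sc f g a) = sc f (u ≫ g) a :=
  (ConcreteCategory.congr_hom (O_C.obj.map_comp g.op u.op) _).symm

lemma sc_comp {U : C} {V V' : D} (g : U ⟶ f.fn.obj V') (h : V' ⟶ V) (a : O_D.obj.obj (op V)) :
    sc f (g ≫ f.fn.map h) a = sc f g ((O_D.obj.map h.op).hom a) := by
  have h1 := ConcreteCategory.congr_hom (f.sharp.hom.naturality h.op) a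
  change (f.sharp.hom.app (op V')).hom ((O_D.obj.map h.op).hom a) =
    (O_C.obj.map (f.fn.map h).op).hom ((f.sharp.hom.app (op V)).hom a) at h1
  change _ = (O_C.obj.map g.op).hom ((f.sharp.hom.app (op V')).hom ((O_D.obj.map h.op).hom a))
  rw [h1]
  exact (sc_res f g (f.fn.map h) a).symm

/-- Restriction of generators. -/
def resIdx {U U' : C} (u : U' ⟶ U) : Idx f M U → Idx f M U' := fun i => ⟨i.1, u ≫ i.2.1, i.2.2⟩

/-- Restriction of formal sections. -/
noncomputable def resF {U U' : C} (u : U' ⟶ U) :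
    (Idx f M U →₀ O_C.obj.obj (op U)) →ₛₗ[(O_C.obj.map u.op).hom] (Idx f M U' →₀ O_C.obj.obj (op U')) where
  toFun z := Finsupp.mapDomain (resIdx f M u) (Finsupp.mapRange (O_C.obj.map u.op).hom (map_zero _) z)
  map_add' a b := by rw [Finsupp.mapRange_add (map_add _), Finsupp.mapDomain_add]
  map_smul' c a := by
    rw [← Finsupp.mapDomain_smul]
    congr 1
    ext i
    simp

@[simp]
lemma resF_single {U U' : C} (u : U' ⟶ U) (i : Idx f M U) (b : O_C.obj.obj (op U)) :
    resF f M u (Finsupp.single i b) = Finsupp.single (resIdx f M u i) ((O_C.obj.map u.op).hom b) := by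
  simp [resF]

/-- The relations. -/
def relSet (U : C) : Set (Idx f M U →₀ O_C.obj.obj (op U)) :=
  {z | (∃ (V : D) (g : U ⟶ f.fn.obj V) (m m' : ModSite.sect M V),
      z = Finsupp.single ⟨V, g, m + m'⟩ 1 - Finsupp.single ⟨V, g, m⟩ 1 - Finsupp.single ⟨V, g, m'⟩ 1) ∨
    (∃ (V : D) (g : U ⟶ f.fn.obj V) (a : O_D.obj.obj (op V)) (m : ModSite.sect M V),
      z = Finsupp.single ⟨V, g, a • m⟩ 1 - Finsupp.single ⟨V, g, m⟩ (sc f g a)) ∨
    ∃ (V V' : D) (h : V' ⟶ V) (g : U ⟶ f.fn.obj V') (m : ModSite.sect M V),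
      z = Finsupp.single ⟨V, g ≫ f.fn.map h, m⟩ 1 - Finsupp.single ⟨V', g, ModSiteFlat.rmap M h m⟩ 1}

/-- The submodule of relations. -/
noncomputable def Rel (U : C) : Submodule (O_C.obj.obj (op U)) (Idx f M U →₀ O_C.obj.obj (op U)) :=
  Submodule.span _ (relSet f M U)

lemma rel_res {U U' : C} (u : U' ⟶ U) : Rel f M U ≤ (Rel f M U').comap (resF f M u) := by
  refine Submodule.span_le.2 fun z hz => Submodule.subset_span ?_
  rcases hz with ⟨V, g, m, m', rfl⟩ | ⟨V, g, a, m, rfl⟩ | ⟨V, V', h, g, m, rfl⟩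
  · exact Or.inl ⟨V, u ≫ g, m, m', by simp [resIdx]⟩
  · exact Or.inr (Or.inl ⟨V, u ≫ g, a, m, by simp [resIdx, sc_res]⟩)
  · exact Or.inr (Or.inr ⟨V, V', h, u ≫ g, m, by simp [resIdx]⟩)

/-- A choice of a common object under finitely many generators. -/
structure Dat {U U' : C} (Φ : Finset (Idx f M U)) (g : U' ⟶ U) where
  /-- the object -/
  W : D
  /-- the map to its image -/
  k : U' ⟶ f.fn.obj W
  /-- the maps to the generators -/
  l : ∀ i ∈ Φ, W ⟶ i.1
  fac : ∀ (i : Idx f M U) (hi : i ∈ Φ), k ≫ f.fn.map (l i hi) = g ≫ i.2.1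

variable {f M}

/-- Smaller sets of generators. -/
def Dat.restrict {U U' : C} {Φ Ψ : Finset (Idx f M U)} {g : U' ⟶ U} (d : Dat f M Ψ g) (h : Φ ⊆ Ψ) : Dat f M Φ g :=
  ⟨d.W, d.k, fun i hi => d.l i (h hi), fun i hi => d.fac i (h hi)⟩

/-- Refinement. -/
def Dat.refine {U U' U'' : C} {Φ : Finset (Idx f M U)} {g : U' ⟶ U} (d : Dat f M Φ g) (g' : U'' ⟶ U') {W' : D}
    (r : W' ⟶ d.W) (k' : U'' ⟶ f.fn.obj W') (h : k' ≫ f.fn.map r = g' ≫ d.k) : Dat f M Φ (g' ≫ g) :=
  ⟨W', k', fun i hi => r ≫ d.l i hi, fun i hi => by rw [Functor.map_comp, reassoc_of% h, d.fac, assoc]⟩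

/-- The value of a formal section at the chosen object. -/
noncomputable def Dat.img {U U' : C} {Φ : Finset (Idx f M U)} {g : U' ⟶ U} (d : Dat f M Φ g) :
    (Idx f M U →₀ O_C.obj.obj (op U)) →ₛₗ[(O_C.obj.map g.op).hom] (ModSite.sect M d.W →₀ O_C.obj.obj (op U')) where
  toFun z := ∑ i ∈ Φ.attach, Finsupp.single (ModSiteFlat.rmap M (d.l i.1 i.2) i.1.2.2) ((O_C.obj.map g.op).hom (z i.1))
  map_add' a b := by simp [Finset.sum_add_distrib]
  map_smul' c a := by simp [Finset.smul_sum]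

variable (M) in
/-- Restriction of values. -/
noncomputable def resV {U' U'' : C} (u : U'' ⟶ U') {W W' : D} (r : W' ⟶ W) :
    (ModSite.sect M W →₀ O_C.obj.obj (op U')) →ₛₗ[(O_C.obj.map u.op).hom] (ModSite.sect M W' →₀ O_C.obj.obj (op U'')) where
  toFun z := Finsupp.mapDomain (ModSiteFlat.rmap M r) (Finsupp.mapRange (O_C.obj.map u.op).hom (map_zero _) z)
  map_add' a b := by rw [Finsupp.mapRange_add (map_add _), Finsupp.mapDomain_add]
  map_smul' c a := by
    rw [← Finsupp.mapDomain_smul]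
    congr 1
    ext i
    simp

lemma Dat.img_refine {U U' U'' : C} {Φ : Finset (Idx f M U)} {g : U' ⟶ U} (d : Dat f M Φ g) (g' : U'' ⟶ U')
    {W' : D} (r : W' ⟶ d.W) (k' : U'' ⟶ f.fn.obj W') (h : k' ≫ f.fn.map r = g' ≫ d.k)
    (z : Idx f M U →₀ O_C.obj.obj (op U)) : (d.refine g' r k' h).img z = resV M g' r (d.img z) := by
  rw [Dat.img, Dat.img]
  simp only [LinearMap.coe_mk, AddHom.coe_mk, map_sum]
  refine Finset.sum_congr rfl fun i _ => ?_
  simp only [resV, LinearMap.coe_mk, AddHom.coe_mk, Finsupp.mapRange_single, Finsupp.mapDomain_single]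
  change Finsupp.single (ModSiteFlat.rmap M (r ≫ d.l i.1 i.2) i.1.2.2) ((O_C.obj.map (g' ≫ g).op).hom (z i.1)) = _
  rw [ModSiteFlat.rmap_comp, op_comp, Functor.map_comp]
  rfl

lemma Dat.img_restrict {U U' : C} {Φ Ψ : Finset (Idx f M U)} {g : U' ⟶ U} (d : Dat f M Ψ g) (h : Φ ⊆ Ψ)
    {z : Idx f M U →₀ O_C.obj.obj (op U)} (hz : z.support ⊆ Φ) : (d.restrict h).img z = d.img z := by
  simp only [Dat.img, LinearMap.coe_mk, AddHom.coe_mk]
  let F : {i // i ∈ Ψ} → (ModSite.sect M d.W →₀ O_C.obj.obj (op U')) := fun i =>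
    Finsupp.single (ModSiteFlat.rmap M (d.l i.1 i.2) i.1.2.2) ((O_C.obj.map g.op).hom (z i.1))
  classical
  change ∑ i ∈ Φ.attach, F ⟨i.1, h i.2⟩ = ∑ i ∈ Ψ.attach, F i
  refine Eq.trans ?_ (Finset.sum_subset (s₁ := Φ.attach.image fun i => (⟨i.1, h i.2⟩ : {i // i ∈ Ψ}))
    (fun i _ => Finset.mem_attach _ i) fun i _ hi => ?_)
  · exact (Finset.sum_image (g := fun i : {i // i ∈ Φ} => (⟨i.1, h i.2⟩ : {i // i ∈ Ψ})) (f := F)
      fun a _ b _ hab => Subtype.ext (congrArg (fun x : {i // i ∈ Ψ} => x.1) hab)).symm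
  · have : z i.1 = 0 := Finsupp.notMem_support_iff.1 fun hs => hi (Finset.mem_image.2 ⟨⟨i.1, hz hs⟩, Finset.mem_attach _ _, rfl⟩)
    simp [F, this]

variable (f M)

/-- Linear relations among the values, extended to the scalars upstairs. -/
noncomputable def Z {U' : C} {W : D} (k : U' ⟶ f.fn.obj W) :
    Submodule (O_C.obj.obj (op U')) (ModSite.sect M W →₀ O_C.obj.obj (op U')) :=
  Submodule.span _ (Set.range fun κ : LinearMap.ker (Finsupp.linearCombination (O_D.obj.obj (op W))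
    (id : ModSite.sect M W → ModSite.sect M W)) => Finsupp.mapRange (sc f k) (map_zero _) κ.1)

variable {f M}

lemma mem_Z {U' : C} {W : D} (k : U' ⟶ f.fn.obj W) (κ : ModSite.sect M W →₀ O_D.obj.obj (op W))
    (hκ : Finsupp.linearCombination (O_D.obj.obj (op W)) (id : ModSite.sect M W → ModSite.sect M W) κ = 0) :
    Finsupp.mapRange (sc f k) (map_zero _) κ ∈ Z f M k :=
  Submodule.subset_span ⟨⟨κ, hκ⟩, rfl⟩

lemma resV_mem_Z {U' U'' : C} {W W' : D} (k : U' ⟶ f.fn.obj W) (u : U'' ⟶ U') (r : W' ⟶ W)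
    (k' : U'' ⟶ f.fn.obj W') (h : k' ≫ f.fn.map r = u ≫ k) {x : ModSite.sect M W →₀ O_C.obj.obj (op U')}
    (hx : x ∈ Z f M k) : resV M u r x ∈ Z f M k' := by
  suffices Z f M k ≤ (Z f M k').comap (resV M u r) from this hx
  refine Submodule.span_le.2 ?_
  rintro _ ⟨⟨κ, hκ⟩, rfl⟩
  let κ' : ModSite.sect M W' →₀ O_D.obj.obj (op W') :=
    Finsupp.mapDomain (ModSiteFlat.rmap M r) (Finsupp.mapRange (O_D.obj.map r.op).hom (map_zero _) κ)
  have hκ' : Finsupp.linearCombination (O_D.obj.obj (op W')) (id : ModSite.sect M W' → ModSite.sect M W') κ' = 0 := by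
    have h1 := congrArg (ModSiteFlat.rmap M r) hκ
    rw [map_zero] at h1
    rw [← h1, Finsupp.linearCombination_mapDomain, Finsupp.linearCombination_apply, Finsupp.linearCombination_apply,
      Finsupp.sum_mapRange_index (fun i => by exact zero_smul _ _), Finsupp.sum, Finsupp.sum, map_sum]
    exact Finset.sum_congr rfl fun x _ => (ModSiteFlat.rmap_smul M r _ _).symm
  have e : resV M u r (Finsupp.mapRange (sc f k) (map_zero _) κ) = Finsupp.mapRange (sc f k') (map_zero _) κ' := by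
    simp only [κ', resV, LinearMap.coe_mk, AddHom.coe_mk]
    rw [← Finsupp.mapDomain_mapRange _ _ _ (map_zero _) (map_add _)]
    congr 1
    ext i
    simp only [Finsupp.mapRange_apply]
    rw [sc_res, ← h, sc_comp]
  exact (SetLike.mem_coe.2 (e ▸ mem_Z k' κ' hκ') :)

end Groth.Agent.PullFlat
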