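import Mathlib

/-!
A continuous functor whose pullback of sheaves of sets is left exact is locally flat.
-/

set_option backward.isDefEq.respectTransparency false
set_option backward.isDefEq.respectTransparency.types false
set_option autoImplicit false

universe u

namespace Groth.Agent.PullFlat

open CategoryTheory Category Limits Opposite

variable {C D : Type u} [SmallCategory C] [SmallCategory D] (J : GrothendieckTopology C) (K : GrothendieckTopology D)

/-- A property holds locally on `U`. -/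
def Loc (U : C) (P : ∀ ⦃U' : C⦄, (U' ⟶ U) → Prop) : Prop :=
  ∃ S ∈ J U, ∀ ⦃U' : C⦄ (g : U' ⟶ U), S g → P g

variable {J}

lemma Loc.of_forall {U : C} {P : ∀ ⦃U' : C⦄, (U' ⟶ U) → Prop} (h : ∀ ⦃U' : C⦄ (g : U' ⟶ U), P g) : Loc J U P :=
  ⟨⊤, J.top_mem U, fun _ g _ => h g⟩

lemma Loc.mono {U : C} {P Q : ∀ ⦃U' : C⦄, (U' ⟶ U) → Prop} (hP : Loc J U P)
    (h : ∀ ⦃U' : C⦄ (g : U' ⟶ U), P g → Q g) : Loc J U Q := by
  obtain ⟨S, hS, hS'⟩ := hP
  exact ⟨S, hS, fun U' g hg => h g (hS' g hg)⟩

lemma Loc.bind {U : C} {P Q : ∀ ⦃U' : C⦄, (U' ⟶ U) → Prop} (hP : Loc J U P)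
    (h : ∀ ⦃U' : C⦄ (g : U' ⟶ U), P g → Loc J U' fun _ g' => Q (g' ≫ g)) : Loc J U Q := by
  obtain ⟨S, hS, hS'⟩ := hP
  choose T hT hT' using fun U' (g : U' ⟶ U) (hg : S g) => h g (hS' g hg)
  refine ⟨Sieve.bind S fun U' g hg => T U' g hg, J.bind_covering hS fun U' g hg => hT U' g hg, ?_⟩
  rintro W _ ⟨V, h, g, hg, hh, rfl⟩
  exact hT' V g hg h hh

lemma Loc.of_mem {U : C} {S : Sieve U} (hS : S ∈ J U) : Loc J U fun _ g => S g := ⟨S, hS, fun _ _ h => h⟩

variable {K} (fn : D ⥤ C) [fn.IsContinuous K J]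

lemma loc_lift {U : C} {V : D} (k : U ⟶ fn.obj V) {R : Sieve V} (hR : R ∈ K V) :
    Loc J U fun U' g => ∃ (W : D) (r : W ⟶ V) (k' : U' ⟶ fn.obj W), R r ∧ k' ≫ fn.map r = g ≫ k := by
  refine (Loc.of_mem (J.pullback_stable k ((CoverPreserving.of_isContinuous (F := fn) (J := K) (K := J)).cover_preserve hR))).mono ?_
  rintro U' g ⟨W, r, h, hr, e⟩
  exact ⟨W, r, h, hr, e.symm⟩

section Rep

variable {E : Type u} [SmallCategory E] (L : GrothendieckTopology E)

/-- The sheafified representable. -/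
noncomputable def rep (V : E) : Sheaf L (Type u) := (presheafToSheaf L (Type u)).obj (yoneda.obj V)

/-- Its universal section. -/
noncomputable def univ (V : E) : (rep L V).obj.obj (op V) :=
  (toSheafify L (yoneda.obj V)).app (op V) (𝟙 V)

variable {L}

/-- Maps out of the sheafified representable. -/
noncomputable def lift {V : E} {G : Sheaf L (Type u)} (x : G.obj.obj (op V)) : rep L V ⟶ G :=
  ((sheafificationAdjunction L (Type u)).homEquiv (yoneda.obj V) G).symm (yonedaEquiv.symm x)

lemma toSheafify_lift {V : E} {G : Sheaf L (Type u)} (x : G.obj.obj (op V)) :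
    toSheafify L (yoneda.obj V) ≫ (lift x).hom = yonedaEquiv.symm x :=
  Equiv.apply_symm_apply ((sheafificationAdjunction L (Type u)).homEquiv (yoneda.obj V) G) (yonedaEquiv.symm x)

lemma lift_app {V W : E} {G : Sheaf L (Type u)} (x : G.obj.obj (op V)) (f : W ⟶ V) :
    (lift x).hom.app (op W) ((rep L V).obj.map f.op (univ L V)) = G.obj.map f.op x := by
  have h2 := ConcreteCategory.congr_hom (congrArg (fun τ : yoneda.obj V ⟶ G.obj => τ.app (op W)) (toSheafify_lift x)) f
  refine Eq.trans ?_ h2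
  change _ = (lift x).hom.app (op W) ((toSheafify L (yoneda.obj V)).app (op W) f)
  refine congrArg _ ?_
  refine (NatTrans.naturality_apply (toSheafify L (yoneda.obj V)) f.op (𝟙 V)).symm.trans ?_
  exact congrArg _ (comp_id f)

lemma lift_univ {V : E} {G : Sheaf L (Type u)} (x : G.obj.obj (op V)) :
    (lift x).hom.app (op V) (univ L V) = x := by
  simpa using lift_app x (𝟙 V)

lemma rep_hom_ext {V : E} {G : Sheaf L (Type u)} {a b : rep L V ⟶ G}
    (h : a.hom.app (op V) (univ L V) = b.hom.app (op V) (univ L V)) : a = b :=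
  ((sheafificationAdjunction L (Type u)).homEquiv (yoneda.obj V) G).injective (yonedaEquiv.injective h)

/-- Locally, sections of a sheafified representable are maps. -/
lemma rep_loc_surj {V W : E} (s : (rep L V).obj.obj (op W)) :
    Loc L W fun W' r => ∃ l : W' ⟶ V, (rep L V).obj.map l.op (univ L V) = (rep L V).obj.map r.op s := by
  refine (Loc.of_mem (Presheaf.imageSieve_mem L (toSheafify L (yoneda.obj V)) s)).mono ?_
  rintro W' r ⟨l, hl⟩
  refine ⟨l, Eq.trans ?_ hl⟩
  refine (NatTrans.naturality_apply (toSheafify L (yoneda.obj V)) l.op (𝟙 V)).symm.trans ?_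
  exact congrArg _ (comp_id l)

/-- Maps with the same image in the sheafified representable are locally equal. -/
lemma rep_loc_inj {V W : E} (a b : W ⟶ V)
    (h : (rep L V).obj.map a.op (univ L V) = (rep L V).obj.map b.op (univ L V)) :
    Loc L W fun _ r => r ≫ a = r ≫ b := by
  suffices hab : (toSheafify L (yoneda.obj V)).app (op W) a = (toSheafify L (yoneda.obj V)).app (op W) b by
    have hS := Presheaf.equalizerSieve_mem L (toSheafify L (yoneda.obj V)) (X := op W) a b hab
    exact (Loc.of_mem hS).mono fun W' r hr => hr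
  have e : ∀ c : W ⟶ V, (toSheafify L (yoneda.obj V)).app (op W) c = (rep L V).obj.map c.op (univ L V) := fun c => by
    refine Eq.trans ?_ (NatTrans.naturality_apply (toSheafify L (yoneda.obj V)) c.op (𝟙 V))
    exact congrArg _ (comp_id c).symm
  exact (e a).trans (h.trans (e b).symm)

end Rep

variable (K J)

/-- The pullback. -/
noncomputable abbrev pb : Sheaf K (Type u) ⥤ Sheaf J (Type u) := fn.sheafPullback (Type u) K J

/-- The unit on sections. -/
noncomputable def ev (G : Sheaf K (Type u)) (W : D) (m : G.obj.obj (op W)) :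
    ((pb J K fn).obj G).obj.obj (op (fn.obj W)) :=
  ((fn.sheafAdjunctionContinuous (Type u) K J).unit.app G).hom.app (op W) m

lemma ev_map {G G' : Sheaf K (Type u)} (τ : G ⟶ G') (W : D) (m : G.obj.obj (op W)) :
    ((pb J K fn).map τ).hom.app (op (fn.obj W)) (ev J K fn G W m) = ev J K fn G' W (τ.hom.app (op W) m) :=
  (ConcreteCategory.congr_hom (congrArg (fun σ : G ⟶ (fn.sheafPushforwardContinuous (Type u) K J).obj ((pb J K fn).obj G') => σ.hom.app (op W))
    ((fn.sheafAdjunctionContinuous (Type u) K J).unit.naturality τ)) m).symm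

lemma ev_res {G : Sheaf K (Type u)} {W W' : D} (r : W' ⟶ W) (m : G.obj.obj (op W)) :
    ((pb J K fn).obj G).obj.map (fn.map r).op (ev J K fn G W m) = ev J K fn G W' (G.obj.map r.op m) :=
  (NatTrans.naturality_apply ((fn.sheafAdjunctionContinuous (Type u) K J).unit.app G).hom r.op m).symm

variable {J K}

/-- Every section of a pullback comes locally from the sheaf. -/
lemma pb_loc_surj (G : Sheaf K (Type u)) {U : C} (s : ((pb J K fn).obj G).obj.obj (op U)) :
    Loc J U fun U' g => ∃ (W : D) (k : U' ⟶ fn.obj W) (m : G.obj.obj (op W)),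
      ((pb J K fn).obj G).obj.map k.op (ev J K fn G W m) = ((pb J K fn).obj G).obj.map g.op s := by
  let F := ((pb J K fn).obj G)
  let T₀ : Subfunctor F.obj :=
    { obj := fun X => {t | ∃ (W : D) (k : X.unop ⟶ fn.obj W) (m : G.obj.obj (op W)),
        F.obj.map k.op (ev J K fn G W m) = t}
      map := fun {X Y} i t ⟨W, k, m, h⟩ => ⟨W, i.unop ≫ k, m, by
        rw [← h]
        simp [F]⟩ }
  have hF : Presieve.IsSheaf J F.obj := (isSheaf_iff_isSheaf_of_type J F.obj).1 F.2
  let T : Sheaf J (Type u) := ⟨(T₀.sheafify J).toFunctor,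
    (isSheaf_iff_isSheaf_of_type J _).2 (T₀.sheafify_isSheaf hF)⟩
  let i : T ⟶ F := ⟨(T₀.sheafify J).ι⟩
  let adj := fn.sheafAdjunctionContinuous (Type u) K J
  let η₁ : G ⟶ (fn.sheafPushforwardContinuous (Type u) K J).obj T :=
    ⟨{ app := fun X => ↾fun m => ⟨ev J K fn G X.unop m, T₀.le_sheafify J _ ⟨X.unop, 𝟙 _, m, by simp⟩⟩
       naturality := fun X Y r => by
        ext m
        exact Subtype.ext (ev_res J K fn r.unop m).symm }⟩
  have h1 : (adj.homEquiv G T).symm η₁ ≫ i = 𝟙 F := by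
    apply (adj.homEquiv G F).injective
    rw [Adjunction.homEquiv_naturality_right, Equiv.apply_symm_apply, adj.homEquiv_id]
    rfl
  have hs : s ∈ (T₀.sheafify J).obj (op U) := by
    have h2 := ConcreteCategory.congr_hom (congrArg (fun τ : F ⟶ F => τ.hom.app (op U)) h1) s
    exact Set.mem_of_eq_of_mem (h2.symm : _) (((adj.homEquiv G T).symm η₁).hom.app (op U) s).2
  exact (Loc.of_mem hs).mono fun U' g hg => hg

/-- The universal comparison at a representable. -/
noncomputable def comparison (V : D) : (pb J K fn).obj (rep K V) ⟶ rep J (fn.obj V) :=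
  ((fn.sheafAdjunctionContinuous (Type u) K J).homEquiv _ _).symm
    (lift (G := (fn.sheafPushforwardContinuous (Type u) K J).obj (rep J (fn.obj V))) (univ J (fn.obj V)))

lemma comparison_ev {V W : D} (l : W ⟶ V) :
    (comparison fn V).hom.app (op (fn.obj W)) (ev J K fn (rep K V) W ((rep K V).obj.map l.op (univ K V))) =
      (rep J (fn.obj V)).obj.map (fn.map l).op (univ J (fn.obj V)) := by
  let adj := fn.sheafAdjunctionContinuous (Type u) K J
  let G' := (fn.sheafPushforwardContinuous (Type u) K J).obj (rep J (fn.obj V))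
  have h : adj.unit.app (rep K V) ≫ (fn.sheafPushforwardContinuous (Type u) K J).map (comparison fn V) =
      lift (G := G') (univ J (fn.obj V)) := by
    erw [← adj.homEquiv_unit]
    exact Equiv.apply_symm_apply _ _
  exact (ConcreteCategory.congr_hom (congrArg (fun τ => τ.hom.app (op W)) h) _).trans
    (lift_app (G := G') (univ J (fn.obj V)) l)

lemma comparison_res {V W : D} {U : C} (k : U ⟶ fn.obj W) (l : W ⟶ V) :
    (comparison fn V).hom.app (op U) (((pb J K fn).obj (rep K V)).obj.map k.op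
        (ev J K fn (rep K V) W ((rep K V).obj.map l.op (univ K V)))) =
      (rep J (fn.obj V)).obj.map (k ≫ fn.map l).op (univ J (fn.obj V)) := by
  rw [NatTrans.naturality_apply (comparison fn V).hom k.op, comparison_ev]
  simp

/-- If a section pulled back from an actual map agrees with a section pulled back from a representable, the maps
agree locally. -/
lemma loc_eq {V W : D} {U : C} (a : U ⟶ fn.obj V) (k : U ⟶ fn.obj W) (l : W ⟶ V)
    (h : ((pb J K fn).obj (rep K V)).obj.map k.op (ev J K fn (rep K V) W ((rep K V).obj.map l.op (univ K V))) =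
      ((pb J K fn).obj (rep K V)).obj.map a.op (ev J K fn (rep K V) V (univ K V))) :
    Loc J U fun _ g => g ≫ k ≫ fn.map l = g ≫ a := by
  refine rep_loc_inj _ _ ?_
  rw [← comparison_res (K := K), h]
  have h1 := comparison_res (J := J) (K := K) fn a (𝟙 V)
  simpa using h1

variable [PreservesFiniteLimits (pb J K fn)]

include K in
/-- Every object is locally over some object of the site. -/
lemma loc_nonempty (U : C) : Loc J U fun U' _ => ∃ W : D, Nonempty (U' ⟶ fn.obj W) := by
  let a : rep J U ⟶ (pb J K fn).obj (⊤_ Sheaf K (Type u)) :=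
    terminal.from _ ≫ (PreservesTerminal.iso (pb J K fn)).inv
  refine (pb_loc_surj fn _ (a.hom.app (op U) (univ J U))).mono ?_
  rintro U' g ⟨W, k, -, -⟩
  exact ⟨W, ⟨k⟩⟩

include K in
/-- Two maps into images lift locally to one. -/
lemma loc_pair {U : C} {V₁ V₂ : D} (a : U ⟶ fn.obj V₁) (b : U ⟶ fn.obj V₂) :
    Loc J U fun U' g => ∃ (W : D) (k : U' ⟶ fn.obj W) (l₁ : W ⟶ V₁) (l₂ : W ⟶ V₂),
      k ≫ fn.map l₁ = g ≫ a ∧ k ≫ fn.map l₂ = g ≫ b := by
  let P := rep K V₁ ⨯ rep K V₂
  let sa := ((pb J K fn).obj (rep K V₁)).obj.map a.op (ev J K fn _ V₁ (univ K V₁))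
  let sb := ((pb J K fn).obj (rep K V₂)).obj.map b.op (ev J K fn _ V₂ (univ K V₂))
  let σ : rep J U ⟶ (pb J K fn).obj P :=
    prod.lift (lift sa) (lift sb) ≫ inv (prodComparison (pb J K fn) (rep K V₁) (rep K V₂))
  let s := σ.hom.app (op U) (univ J U)
  have h₁ : ((pb J K fn).map (prod.fst : P ⟶ _)).hom.app (op U) s = sa := by
    have : σ ≫ (pb J K fn).map prod.fst = lift sa := by
      simp only [σ, assoc]
      rw [show inv (prodComparison (pb J K fn) (rep K V₁) (rep K V₂)) ≫ (pb J K fn).map prod.fst = prod.fst by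
        rw [IsIso.inv_comp_eq, prodComparison_fst]]
      exact prod.lift_fst _ _
    exact (ConcreteCategory.congr_hom (congrArg (fun τ => τ.hom.app (op U)) this) _).trans (lift_univ sa)
  have h₂ : ((pb J K fn).map (prod.snd : P ⟶ _)).hom.app (op U) s = sb := by
    have : σ ≫ (pb J K fn).map prod.snd = lift sb := by
      simp only [σ, assoc]
      rw [show inv (prodComparison (pb J K fn) (rep K V₁) (rep K V₂)) ≫ (pb J K fn).map prod.snd = prod.snd by
        rw [IsIso.inv_comp_eq, prodComparison_snd]]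
      exact prod.lift_snd _ _
    exact (ConcreteCategory.congr_hom (congrArg (fun τ => τ.hom.app (op U)) this) _).trans (lift_univ sb)
  refine (pb_loc_surj fn P s).bind ?_
  rintro U₁ g ⟨W, k, m, hm⟩
  obtain ⟨R₁, hR₁, hl₁⟩ := rep_loc_surj ((prod.fst : P ⟶ _).hom.app (op W) m)
  obtain ⟨R₂, hR₂, hl₂⟩ := rep_loc_surj ((prod.snd : P ⟶ _).hom.app (op W) m)
  refine (loc_lift fn k (K.intersection_covering hR₁ hR₂)).bind ?_
  rintro U₂ g' ⟨W', r, k', ⟨hr₁, hr₂⟩, hk'⟩
  obtain ⟨l₁, e₁⟩ := hl₁ r hr₁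
  obtain ⟨l₂, e₂⟩ := hl₂ r hr₂
  have key : ∀ {V : D} (π : P ⟶ rep K V) (l : W' ⟶ V) (c : U ⟶ fn.obj V),
      (rep K V).obj.map l.op (univ K V) = (rep K V).obj.map r.op (π.hom.app (op W) m) →
      ((pb J K fn).map π).hom.app (op U) s = ((pb J K fn).obj (rep K V)).obj.map c.op (ev J K fn _ V (univ K V)) →
      ((pb J K fn).obj (rep K V)).obj.map k'.op (ev J K fn (rep K V) W' ((rep K V).obj.map l.op (univ K V))) =
        ((pb J K fn).obj (rep K V)).obj.map ((g' ≫ g) ≫ c).op (ev J K fn (rep K V) V (univ K V)) := by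
    intro V π l c hl hs
    rw [hl, ← ev_res, ← ev_map]
    have h3 := congrArg (fun z => ((pb J K fn).map π).hom.app (op U₂) (((pb J K fn).obj P).obj.map g'.op z)) hm
    simp only [NatTrans.naturality_apply] at h3
    rw [hs] at h3
    simp only [← Functor.map_comp_apply, ← op_comp, ← assoc] at h3 ⊢
    rw [hk']
    exact h3
  refine (loc_eq fn ((g' ≫ g) ≫ a) k' l₁ (key _ l₁ a e₁ h₁)).bind fun U₃ g₁ e => ?_
  refine (loc_eq (K := K) fn (g₁ ≫ (g' ≫ g) ≫ b) (g₁ ≫ k') l₂ ?_).mono fun U₄ g₂ e' => ?_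
  · have h4 := congrArg (((pb J K fn).obj (rep K V₂)).obj.map g₁.op) (key _ l₂ b e₂ h₂)
    simp only [← Functor.map_comp_apply, ← op_comp, assoc] at h4 ⊢
    exact h4
  · refine ⟨W', g₂ ≫ g₁ ≫ k', l₁, l₂, ?_, ?_⟩
    · simp only [assoc] at e ⊢
      rw [e]
    · simp only [assoc] at e' ⊢
      exact e'

include K in
/-- Maps equalised by the functor are equalised locally. -/
lemma loc_equalizer {U : C} {V V' : D} (h₁ h₂ : V ⟶ V') (k : U ⟶ fn.obj V)
    (hk : k ≫ fn.map h₁ = k ≫ fn.map h₂) :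
    Loc J U fun U' g => ∃ (W : D) (l : W ⟶ V) (k' : U' ⟶ fn.obj W),
      k' ≫ fn.map l = g ≫ k ∧ l ≫ h₁ = l ≫ h₂ := by
  let u₁ : rep K V ⟶ rep K V' := lift ((rep K V').obj.map h₁.op (univ K V'))
  let u₂ : rep K V ⟶ rep K V' := lift ((rep K V').obj.map h₂.op (univ K V'))
  let sk := ((pb J K fn).obj (rep K V)).obj.map k.op (ev J K fn _ V (univ K V))
  have hu : lift sk ≫ (pb J K fn).map u₁ = lift sk ≫ (pb J K fn).map u₂ := by
    apply rep_hom_ext
    have hs : ∀ (h : V ⟶ V'), ((pb J K fn).map (lift ((rep K V').obj.map h.op (univ K V')))).hom.app (op U) sk =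
        ((pb J K fn).obj (rep K V')).obj.map (k ≫ fn.map h).op (ev J K fn _ V' (univ K V')) := fun h => by
      simp only [sk, NatTrans.naturality_apply, ev_map, lift_univ]
      rw [← ev_res, ← Functor.map_comp_apply, ← op_comp]
    change ((pb J K fn).map u₁).hom.app (op U) ((lift sk).hom.app (op U) (univ J U)) =
      ((pb J K fn).map u₂).hom.app (op U) ((lift sk).hom.app (op U) (univ J U))
    rw [lift_univ, hs h₁, hs h₂, hk]
  let σ : rep J U ⟶ (pb J K fn).obj (equalizer u₁ u₂) :=
    equalizer.lift (lift sk) hu ≫ inv (equalizerComparison u₁ u₂ (pb J K fn))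
  let s := σ.hom.app (op U) (univ J U)
  have hs : ((pb J K fn).map (equalizer.ι u₁ u₂)).hom.app (op U) s = sk := by
    have : σ ≫ (pb J K fn).map (equalizer.ι u₁ u₂) = lift sk := by
      simp only [σ, assoc]
      rw [show inv (equalizerComparison u₁ u₂ (pb J K fn)) ≫ (pb J K fn).map (equalizer.ι u₁ u₂) = equalizer.ι _ _ by
        rw [IsIso.inv_comp_eq, equalizerComparison_comp_π]]
      exact equalizer.lift_ι _ _
    exact (ConcreteCategory.congr_hom (congrArg (fun τ => τ.hom.app (op U)) this) _).trans (lift_univ sk)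
  refine (pb_loc_surj fn _ s).bind ?_
  rintro U₁ g ⟨W, k₁, m, hm⟩
  obtain ⟨R, hR, hl⟩ := rep_loc_surj ((equalizer.ι u₁ u₂).hom.app (op W) m)
  refine (loc_lift fn k₁ hR).bind ?_
  rintro U₂ g' ⟨W', r, k', hr, hk'⟩
  obtain ⟨l, el⟩ := hl r hr
  have key : ((pb J K fn).obj (rep K V)).obj.map k'.op (ev J K fn (rep K V) W' ((rep K V).obj.map l.op (univ K V))) =
      ((pb J K fn).obj (rep K V)).obj.map ((g' ≫ g) ≫ k).op (ev J K fn (rep K V) V (univ K V)) := by
    rw [el, ← ev_res, ← ev_map]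
    have h3 := congrArg (fun z => ((pb J K fn).map (equalizer.ι u₁ u₂)).hom.app (op U₂)
      (((pb J K fn).obj _).obj.map g'.op z)) hm
    simp only [NatTrans.naturality_apply] at h3
    rw [hs] at h3
    simp only [sk, ← Functor.map_comp_apply, ← op_comp, ← assoc] at h3 ⊢
    rw [hk']
    exact h3
  have he : (rep K V').obj.map (l ≫ h₁).op (univ K V') = (rep K V').obj.map (l ≫ h₂).op (univ K V') := by
    have h4 : u₁.hom.app (op W') ((rep K V).obj.map r.op ((equalizer.ι u₁ u₂).hom.app (op W) m)) =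
        u₂.hom.app (op W') ((rep K V).obj.map r.op ((equalizer.ι u₁ u₂).hom.app (op W) m)) := by
      simp only [NatTrans.naturality_apply]
      exact congrArg _ (ConcreteCategory.congr_hom (congrArg (fun τ : equalizer u₁ u₂ ⟶ rep K V' => τ.hom.app (op W)) (equalizer.condition u₁ u₂)) m)
    rw [← el] at h4
    simp only [u₁, u₂, lift_app] at h4
    simpa using h4
  refine (loc_eq fn ((g' ≫ g) ≫ k) k' l key).bind fun U₃ g₁ e => ?_
  obtain ⟨R', hR', heq⟩ := rep_loc_inj _ _ he
  refine (loc_lift fn (g₁ ≫ k') hR').mono fun U₄ g₂ h5 => ?_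
  obtain ⟨W'', r', k'', hr', hk''⟩ := h5
  refine ⟨W'', r' ≫ l, k'', ?_, by rw [assoc, assoc]; exact heq r' hr'⟩
  rw [Functor.map_comp, reassoc_of% hk'']
  simp only [assoc] at e ⊢
  rw [e]

end Groth.Agent.PullFlat
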