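import Groth.Agent.PullFlat.Free

/-!
Formal relations vanish locally at a common object.
-/

set_option backward.isDefEq.respectTransparency false
set_option backward.isDefEq.respectTransparency.types false
set_option linter.style.haveILetI false
set_option autoImplicit false
set_option maxHeartbeats 1000000

universe u

open CategoryTheory Category Limits Opposite

namespace Groth.Agent.PullFlat

attribute [local instance] ModSiteFlat.instModuleSect

variable {C D : Type u} [SmallCategory C] [SmallCategory D] {J : GrothendieckTopology C} {K : GrothendieckTopology D}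
variable {O_C : Sheaf J CommRingCat.{u}} {O_D : Sheaf K CommRingCat.{u}} {f : ModSite.RMor O_C O_D} {M : ModSite.Mod O_D}

lemma Dat.img_single {U U' : C} {Φ : Finset (Idx f M U)} {g : U' ⟶ U} (d : Dat f M Φ g) {i : Idx f M U} (hi : i ∈ Φ)
    (b : O_C.obj.obj (op U)) : d.img (Finsupp.single i b) =
      Finsupp.single (ModSiteFlat.rmap M (d.l i hi) i.2.2) ((O_C.obj.map g.op).hom b) := by
  simp only [Dat.img, LinearMap.coe_mk, AddHom.coe_mk]
  rw [Finset.sum_eq_single (⟨i, hi⟩ : {x // x ∈ Φ})]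
  · simp
  · intro j _ hj
    rw [Finsupp.single_eq_of_ne (fun h => hj (Subtype.ext h)), map_zero, Finsupp.single_zero]
  · exact fun h => absurd (Finset.mem_attach _ _) h

lemma resV_resV {U U' U'' : C} (u : U' ⟶ U) (u' : U'' ⟶ U') {W W' W'' : D} (r : W' ⟶ W) (r' : W'' ⟶ W')
    (x : ModSite.sect M W →₀ O_C.obj.obj (op U)) :
    resV M u' r' (resV M u r x) = resV M (u' ≫ u) (r' ≫ r) x := by
  induction x using Finsupp.induction_linear with
  | zero => simp
  | add a b ha hb => simp only [map_add, ha, hb]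
  | single i a =>
    simp only [resV, LinearMap.coe_mk, AddHom.coe_mk, Finsupp.mapRange_single, Finsupp.mapDomain_single,
      ModSiteFlat.rmap_comp, op_comp, Functor.map_comp]
    rfl

lemma resV_img_single {U U' U'' : C} {Φ : Finset (Idx f M U)} {g : U' ⟶ U} (d : Dat f M Φ g) {i : Idx f M U}
    (hi : i ∈ Φ) (u : U'' ⟶ U') {W : D} (r : W ⟶ d.W) (b : O_C.obj.obj (op U)) :
    resV M u r (d.img (Finsupp.single i b)) =
      Finsupp.single (ModSiteFlat.rmap M (r ≫ d.l i hi) i.2.2) ((O_C.obj.map (u ≫ g).op).hom b) := by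
  rw [d.img_single hi]
  simp only [resV, LinearMap.coe_mk, AddHom.coe_mk, Finsupp.mapRange_single, Finsupp.mapDomain_single,
    ModSiteFlat.rmap_comp, op_comp, Functor.map_comp]
  rfl

/-- The value of `z` at `d` vanishes locally. -/
def Dat.LZ {U U' : C} {Φ : Finset (Idx f M U)} {g : U' ⟶ U} (d : Dat f M Φ g)
    (z : Idx f M U →₀ O_C.obj.obj (op U)) : Prop :=
  Loc J U' fun U'' g' => ∃ (W' : D) (r : W' ⟶ d.W) (k' : U'' ⟶ f.fn.obj W'),
    k' ≫ f.fn.map r = g' ≫ d.k ∧ resV M g' r (d.img z) ∈ Z f M k'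

/-- Vanishing at every common object of some finite set of generators. -/
def Null {U : C} (z : Idx f M U →₀ O_C.obj.obj (op U)) : Prop :=
  ∃ Φ : Finset (Idx f M U), z.support ⊆ Φ ∧ ∀ ⦃U' : C⦄ (g : U' ⟶ U) (d : Dat f M Φ g), d.LZ z

lemma Null.zero (U : C) : Null (0 : Idx f M U →₀ O_C.obj.obj (op U)) :=
  ⟨∅, by simp, fun U' g d => Loc.of_forall fun U'' g' => by
    refine ⟨d.W, 𝟙 _, g' ≫ d.k, by simp, ?_⟩
    rw [map_zero, map_zero]
    exact Submodule.zero_mem _⟩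

lemma Null.add {U : C} {z₁ z₂ : Idx f M U →₀ O_C.obj.obj (op U)} (h₁ : Null z₁) (h₂ : Null z₂) : Null (z₁ + z₂) := by
  classical
  obtain ⟨Φ₁, hs₁, h₁⟩ := h₁
  obtain ⟨Φ₂, hs₂, h₂⟩ := h₂
  refine ⟨Φ₁ ∪ Φ₂, Finsupp.support_add.trans (Finset.union_subset_union hs₁ hs₂), fun U' g d => ?_⟩
  refine (h₁ g (d.restrict Finset.subset_union_left)).bind ?_
  rintro U₁ g₁ ⟨W₁, r₁, k₁, e₁, m₁⟩
  refine (h₂ (g₁ ≫ g) ((d.refine g₁ r₁ k₁ e₁).restrict Finset.subset_union_right)).mono ?_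
  rintro U₂ g₂ ⟨W₂, r₂, k₂, e₂, m₂⟩
  have e₂' : k₂ ≫ f.fn.map r₂ = g₂ ≫ k₁ := e₂
  refine ⟨W₂, r₂ ≫ r₁, k₂, by rw [Functor.map_comp, reassoc_of% e₂']; exact (congrArg (g₂ ≫ ·) e₁).trans (assoc _ _ _).symm, ?_⟩
  rw [Dat.img_restrict d _ hs₁] at m₁
  rw [Dat.img_restrict (d.refine g₁ r₁ k₁ e₁) _ hs₂, Dat.img_refine] at m₂
  rw [map_add, map_add]
  refine Submodule.add_mem _ ?_ ?_
  · refine Eq.mp (congrArg (fun x => x ∈ Z f M k₂) (resV_resV (M := M) g₁ g₂ r₁ r₂ (d.img z₁))) ?_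
    exact resV_mem_Z k₁ g₂ r₂ k₂ e₂' m₁
  · exact Eq.mp (congrArg (fun x => x ∈ Z f M k₂) (resV_resV (M := M) g₁ g₂ r₁ r₂ (d.img z₂))) m₂

lemma Null.smul {U : C} (c : O_C.obj.obj (op U)) {z : Idx f M U →₀ O_C.obj.obj (op U)} (h : Null z) :
    Null (c • z) := by
  obtain ⟨Φ, hs, h⟩ := h
  refine ⟨Φ, Finsupp.support_smul.trans hs, fun U' g d => (h g d).mono ?_⟩
  rintro U₁ g₁ ⟨W₁, r₁, k₁, e₁, m₁⟩
  refine ⟨W₁, r₁, k₁, e₁, ?_⟩
  rw [LinearMap.map_smulₛₗ, LinearMap.map_smulₛₗ]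
  exact Submodule.smul_mem _ _ m₁

variable [PreservesFiniteLimits (pb J K f.fn)]

lemma null_of_mem_rel {U : C} {z : Idx f M U →₀ O_C.obj.obj (op U)} (hz : z ∈ Rel f M U) : Null z := by
  classical
  induction hz using Submodule.span_induction with
  | zero => exact Null.zero U
  | add a b _ _ ha hb => exact ha.add hb
  | smul c a _ ha => exact ha.smul c
  | mem z hz =>
    rcases hz with ⟨V, g, m, m', rfl⟩ | ⟨V, g, a, m, rfl⟩ | ⟨V, V', h, g, m, rfl⟩
    · let i₁ : Idx f M U := ⟨V, g, m + m'⟩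
      let i₂ : Idx f M U := ⟨V, g, m⟩
      let i₃ : Idx f M U := ⟨V, g, m'⟩
      refine ⟨{i₁, i₂, i₃}, ?_, fun U' g₀ d => ?_⟩
      · refine Finsupp.support_sub.trans (Finset.union_subset (Finsupp.support_sub.trans (Finset.union_subset ?_ ?_)) ?_) <;>
          exact Finsupp.support_single_subset.trans (by simp [i₁, i₂, i₃])
      have e₁ := d.fac i₁ (by simp)
      have e₂ := d.fac i₂ (by simp)
      have e₃ := d.fac i₃ (by simp)
      refine (loc_equalizer (K := K) f.fn (d.l i₁ (by simp) : d.W ⟶ V) (d.l i₂ (by simp) : d.W ⟶ V) d.k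
        (e₁.trans e₂.symm)).bind ?_
      rintro U₁ g₁ ⟨W₁, r₁, k₁, f₁, q₁⟩
      refine (loc_equalizer (K := K) f.fn (r₁ ≫ (d.l i₁ (by simp) : d.W ⟶ V)) (r₁ ≫ (d.l i₃ (by simp) : d.W ⟶ V)) k₁ (by
        rw [Functor.map_comp, Functor.map_comp, reassoc_of% f₁, reassoc_of% f₁]
        exact congrArg (g₁ ≫ ·) (e₁.trans e₃.symm))).mono ?_
      rintro U₂ g₂ ⟨W₂, r₂, k₂, f₂, q₂⟩
      refine ⟨W₂, r₂ ≫ r₁, k₂, by rw [Functor.map_comp, reassoc_of% f₂, f₁, assoc], ?_⟩
      let κ : ModSite.sect M W₂ →₀ O_D.obj.obj (op W₂) :=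
        Finsupp.single (ModSiteFlat.rmap M ((r₂ ≫ r₁) ≫ (d.l i₂ (by simp) : d.W ⟶ V)) (m + m')) 1 -
          Finsupp.single (ModSiteFlat.rmap M ((r₂ ≫ r₁) ≫ (d.l i₂ (by simp) : d.W ⟶ V)) m) 1 -
            Finsupp.single (ModSiteFlat.rmap M ((r₂ ≫ r₁) ≫ (d.l i₂ (by simp) : d.W ⟶ V)) m') 1
      refine Eq.mp (congrArg (fun x => x ∈ Z f M k₂) ?_) (mem_Z k₂ κ (by simp [κ]))
      have l₁ : (r₂ ≫ r₁) ≫ (d.l i₁ (by simp) : d.W ⟶ V) = (r₂ ≫ r₁) ≫ (d.l i₂ (by simp) : d.W ⟶ V) := by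
        simp only [assoc]
        exact congrArg (r₂ ≫ ·) q₁
      have l₃ : (r₂ ≫ r₁) ≫ (d.l i₃ (by simp) : d.W ⟶ V) = (r₂ ≫ r₁) ≫ (d.l i₂ (by simp) : d.W ⟶ V) := by
        rw [← l₁, assoc, assoc, q₂]
      rw [map_sub, map_sub, map_sub, map_sub, resV_img_single d (i := i₁) (by simp),
        resV_img_single d (i := i₂) (by simp), resV_img_single d (i := i₃) (by simp)]
      simp only [κ, Finsupp.mapRange_sub (hf := map_zero _) (map_sub (sc f k₂)), Finsupp.mapRange_single, map_one]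
      erw [l₁, l₃]
    · let i₁ : Idx f M U := ⟨V, g, a • m⟩
      let i₂ : Idx f M U := ⟨V, g, m⟩
      refine ⟨{i₁, i₂}, ?_, fun U' g₀ d => ?_⟩
      · refine Finsupp.support_sub.trans (Finset.union_subset ?_ ?_) <;>
          exact Finsupp.support_single_subset.trans (by simp [i₁, i₂])
      have e₁ := d.fac i₁ (by simp)
      have e₂ := d.fac i₂ (by simp)
      refine (loc_equalizer (K := K) f.fn (d.l i₁ (by simp) : d.W ⟶ V) (d.l i₂ (by simp) : d.W ⟶ V) d.k
        (e₁.trans e₂.symm)).mono ?_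
      rintro U₁ g₁ ⟨W₁, r₁, k₁, f₁, q₁⟩
      refine ⟨W₁, r₁, k₁, f₁, ?_⟩
      let l : W₁ ⟶ V := r₁ ≫ (d.l i₂ (by simp) : d.W ⟶ V)
      let κ : ModSite.sect M W₁ →₀ O_D.obj.obj (op W₁) :=
        Finsupp.single (ModSiteFlat.rmap M l (a • m)) 1 -
          Finsupp.single (ModSiteFlat.rmap M l m) ((O_D.obj.map l.op).hom a)
      refine Eq.mp (congrArg (fun x => x ∈ Z f M k₁) ?_) (mem_Z k₁ κ (by simp [κ, ModSiteFlat.rmap_smul]))
      rw [map_sub, map_sub, resV_img_single d (i := i₁) (by simp), resV_img_single d (i := i₂) (by simp)]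
      simp only [κ, Finsupp.mapRange_sub (hf := map_zero _) (map_sub (sc f k₁)), Finsupp.mapRange_single, map_one]
      erw [q₁]
      congr 2
      rw [← sc_comp]
      simp only [l, Functor.map_comp]
      rw [reassoc_of% f₁, sc_res, assoc]
      exact congrArg (fun x => sc f (g₁ ≫ x) a) e₂
    · let i₁ : Idx f M U := ⟨V, g ≫ f.fn.map h, m⟩
      let i₂ : Idx f M U := ⟨V', g, ModSiteFlat.rmap M h m⟩
      refine ⟨{i₁, i₂}, ?_, fun U' g₀ d => ?_⟩
      · refine Finsupp.support_sub.trans (Finset.union_subset ?_ ?_) <;>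
          exact Finsupp.support_single_subset.trans (by simp [i₁, i₂])
      have e₁ := d.fac i₁ (by simp)
      have e₂ := d.fac i₂ (by simp)
      refine (loc_equalizer (K := K) f.fn (d.l i₁ (by simp) : d.W ⟶ V) ((d.l i₂ (by simp) : d.W ⟶ V') ≫ h) d.k (by
        rw [Functor.map_comp, reassoc_of% e₂]
        exact e₁)).mono ?_
      rintro U₁ g₁ ⟨W₁, r₁, k₁, f₁, q₁⟩
      refine ⟨W₁, r₁, k₁, f₁, ?_⟩
      refine Eq.mp (congrArg (fun x => x ∈ Z f M k₁) ?_) (Submodule.zero_mem (Z f M k₁))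
      rw [map_sub, map_sub, resV_img_single d (i := i₁) (by simp), resV_img_single d (i := i₂) (by simp)]
      simp only [map_one]
      change _ = Finsupp.single (ModSiteFlat.rmap M _ m) _ -
        Finsupp.single (ModSiteFlat.rmap M _ (ModSiteFlat.rmap M h m)) _
      rw [← ModSiteFlat.rmap_comp, assoc]
      erw [q₁]
      exact (sub_self _).symm

/-- Finitely many generators have common objects, locally. -/
lemma loc_dat {U : C} (Φ : Finset (Idx f M U)) : Loc J U fun _ g => Nonempty (Dat f M Φ g) := by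
  classical
  induction Φ using Finset.induction with
  | empty =>
    exact (loc_nonempty (K := K) f.fn U).mono fun U' g ⟨W, ⟨k⟩⟩ =>
      ⟨⟨W, k, fun i hi => absurd hi (Finset.notMem_empty i), fun i hi => absurd hi (Finset.notMem_empty i)⟩⟩
  | @insert i Φ _ ih =>
    refine ih.bind ?_
    rintro U₁ g ⟨d⟩
    refine (loc_pair (K := K) f.fn d.k (g ≫ i.2.1)).mono ?_
    rintro U₂ g' ⟨W, k, l, l', e, e'⟩
    refine ⟨⟨W, k, fun j hj => if hji : j = i then l' ≫ eqToHom (by rw [hji]) else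
      l ≫ d.l j ((Finset.mem_insert.1 hj).resolve_left hji), fun j hj => ?_⟩⟩
    by_cases hji : j = i
    · subst hji
      simp [e', assoc]
    · rw [dif_neg hji, Functor.map_comp, reassoc_of% e, d.fac, assoc]

end Groth.Agent.PullFlat
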