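import Groth.Agent.PullFlat.Exact
import Groth.Agent.CohQC.ToSheafExact

/-!
The inverse image of a short exact sequence with flat quotient is short exact.
-/

set_option backward.isDefEq.respectTransparency false
set_option backward.isDefEq.respectTransparency.types false
set_option linter.style.haveILetI false
set_option autoImplicit false
set_option maxHeartbeats 2000000

universe u

open CategoryTheory Category Limits Opposite

namespace Groth.Agent.PullFlat

attribute [local instance] ModSiteFlat.instModuleSect instModulePQ instModulePM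

variable {C D : Type u} [SmallCategory C] [SmallCategory D] {J : GrothendieckTopology C} {K : GrothendieckTopology D}
variable {O_C : Sheaf J CommRingCat.{u}} {O_D : Sheaf K CommRingCat.{u}} {f : ModSite.RMor O_C O_D}
  {M N H : ModSite.Mod O_D} (φ : M ⟶ N) (ψ : N ⟶ H)

lemma loc_lift_sections [Epi ψ] {W : D} {p : ℕ} (t : Fin p → ModSite.sect H W) :
    Loc K W fun W' r => ∀ l, ∃ s : ModSite.sect N W', ψ.val.app (op W') s = ModSiteFlat.rmap H r (t l) := by
  classical
  haveI := CohQC.toSheaf_preservesFiniteColimits (ModSite.ringSh O_D)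
  let q := (SheafOfModules.toSheaf.{u} (ModSite.ringSh O_D)).map ψ
  have hq : Sheaf.IsLocallySurjective q := (Sheaf.isLocallySurjective_iff_epi' AddCommGrpCat.{u} q).mpr inferInstance
  suffices key : ∀ S : Finset (Fin p), Loc K W fun W' r => ∀ l ∈ S, ∃ s : ModSite.sect N W',
      ψ.val.app (op W') s = ModSiteFlat.rmap H r (t l) from
    (key Finset.univ).mono fun W' r h l => h l (Finset.mem_univ l)
  intro S
  induction S using Finset.induction with
  | empty => exact Loc.of_forall fun W' r l hl => absurd hl (Finset.notMem_empty l)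
  | @insert i S _ ih =>
    refine ih.bind fun W₁ r h₁ => ?_
    refine (Loc.of_mem (Presheaf.imageSieve_mem K q.hom (U := op W₁) (ModSiteFlat.rmap H r (t i)))).mono ?_
    rintro W₂ r' ⟨s, hs⟩ l hl
    rcases Finset.mem_insert.1 hl with rfl | hl
    · exact ⟨s, hs.trans (ModSiteFlat.rmap_comp H r r' _).symm⟩
    · obtain ⟨s', hs'⟩ := h₁ l hl
      exact ⟨ModSiteFlat.rmap N r' s', (PresheafOfModules.naturality_apply ψ.val r'.op s').trans
        ((congrArg (ModSiteFlat.rmap H r') hs').trans (ModSiteFlat.rmap_comp H r r' _).symm)⟩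

variable [PreservesFiniteLimits (pb J K f.fn)]

/-- purity: a formal combination from the submodule with image a relation vanishes locally -/
lemma evW_loc_zero_of_flat [Epi ψ] (hH : ModSiteFlat.HasLocalTriv O_D H)
    (hφ : ∀ W, Function.Injective (φ.val.app (op W))) (hψφ : ∀ W m, ψ.val.app (op W) (φ.val.app (op W) m) = 0)
    (hker : ∀ W n, ψ.val.app (op W) n = 0 → ∃ m, φ.val.app (op W) m = n)
    {U : C} {W : D} (k : U ⟶ f.fn.obj W) (x : ModSite.sect M W →₀ O_C.obj.obj (op U))
    (hx : Finsupp.mapDomain (φ.val.app (op W)).hom x ∈ Z f N k) :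
    Loc J U fun U' g => (show (PQ f M).obj (op U') from (PQ f M).map g.op (evW k x)) = 0 := by
  classical
  obtain ⟨c, hc⟩ := Finsupp.mem_span_range_iff_exists_finsupp.1 hx
  let P : ModSite.sect M W → ModSite.sect N W := fun m => φ.val.app (op W) m
  let S₀ : Finset (ModSite.sect N W) := x.support.image P
  let A : Finset (ModSite.sect N W) := S₀ ∪ c.support.biUnion fun e => e.1.support
  let E := c.support.equivFin
  let e : Fin c.support.card → (ModSite.sect N W →₀ O_D.obj.obj (op W)) := fun j => (E.symm j).1.1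
  have he : ∀ j, ∑ n ∈ A, e j n • n = 0 := fun j => by
    refine Eq.trans ?_ (LinearMap.mem_ker.1 (E.symm j).1.2)
    rw [Finsupp.linearCombination_apply, Finsupp.sum]
    exact (Finset.sum_subset (fun n hn => Finset.mem_union_right _ (Finset.mem_biUnion.2 ⟨_, (E.symm j).2, hn⟩))
      fun n _ hn => by rw [Finsupp.notMem_support_iff.1 hn, zero_smul]).symm
  have hcn : ∀ n, Finsupp.mapDomain P x n = ∑ j, sc f k (e j n) * c (E.symm j).1 := by
    intro n
    have := congrArg (fun w : ModSite.sect N W →₀ O_C.obj.obj (op U) => w n) hc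
    simp only [Finsupp.sum, Finsupp.finset_sum_apply, Finsupp.smul_apply, Finsupp.mapRange_apply, smul_eq_mul] at this
    refine this.symm.trans (Eq.trans ?_ (Equiv.sum_comp E.symm fun a => sc f k (a.1.1 n) * c a.1).symm)
    refine Eq.trans ?_ (Finset.sum_coe_sort c.support fun a => sc f k (a.1 n) * c a).symm
    exact Finset.sum_congr rfl fun a _ => mul_comm _ _
  let R₀ : Finset (ModSite.sect N W) := A \ S₀
  let T := R₀.equivFin
  let y : Fin R₀.card → ModSite.sect N W := fun i => (T.symm i).1
  have hy : ∀ {β : Type u} [AddCommMonoid β] (F : ModSite.sect N W → β), ∑ i, F (y i) = ∑ n ∈ R₀, F n :=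
    fun F => (Equiv.sum_comp T.symm fun n => F n.1).trans (Finset.sum_coe_sort R₀ F)
  let pr : ModSite.sect N W →ₗ[O_D.obj.obj (op W)] ModSite.sect H W := (ψ.val.app (op W)).hom
  have hrel : ∀ j, ∑ i, e j (y i) • pr (y i) = 0 := fun j => by
    rw [hy fun n => e j n • pr n]
    refine Eq.trans ?_ ((congrArg pr (he j)).trans (map_zero pr))
    rw [map_sum]
    refine Eq.trans (Finset.sum_congr rfl fun n _ => (map_smul pr (e j n) n).symm) ?_
    refine Finset.sum_subset Finset.sdiff_subset fun n hn hn' => ?_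
    obtain ⟨m, -, rfl⟩ := Finset.mem_image.1
      (by by_contra h; exact hn' (Finset.mem_sdiff.2 ⟨hn, h⟩) : n ∈ S₀)
    rw [map_smul]
    exact (congrArg (e j (P m) • ·) (hψφ W m)).trans (smul_zero _)
  obtain ⟨S, hS, hS'⟩ := ModSiteFlat.exists_cover_solution hH (fun i => pr (y i))
    (Finset.univ : Finset (Fin c.support.card)) (fun j i => e j (y i)) fun j _ => hrel j
  have hcov : Loc K W fun W' r => ∃ (p : ℕ) (s : Fin p → ModSite.sect N W')
      (a : Fin R₀.card → Fin p → O_D.obj.obj (op W')) (μ : Fin R₀.card → ModSite.sect M W'),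
      (∀ i, ModSiteFlat.rmap N r (y i) = φ.val.app (op W') (μ i) + ∑ l, a i l • s l) ∧
        ∀ j l, ∑ i, (O_D.obj.map r.op).hom (e j (y i)) * a i l = 0 := by
    refine (Loc.of_mem hS).bind fun W₁ r hr => ?_
    obtain ⟨p, t, a, ht, ha⟩ := hS' r hr
    refine (loc_lift_sections ψ t).mono fun W₂ r' hs => ?_
    choose s hs using hs
    let pr' : ModSite.sect N W₂ →ₗ[O_D.obj.obj (op W₂)] ModSite.sect H W₂ := (ψ.val.app (op W₂)).hom
    let a' : Fin R₀.card → Fin p → O_D.obj.obj (op W₂) := fun i l => (O_D.obj.map r'.op).hom (a i l)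
    have h0 : ∀ i, pr' (ModSiteFlat.rmap N (r' ≫ r) (y i) - ∑ l, a' i l • s l) = 0 := fun i => by
      rw [map_sub, map_sum, sub_eq_zero]
      refine ((PresheafOfModules.naturality_apply ψ.val (r' ≫ r).op (y i)).trans ?_)
      refine (ModSiteFlat.rmap_comp H r r' _).trans ?_
      refine (congrArg (ModSiteFlat.rmap H r') (ht i)).trans ?_
      rw [map_sum]
      refine Finset.sum_congr rfl fun l _ => ?_
      exact (ModSiteFlat.rmap_smul H r' (a i l) (t l)).trans
        ((congrArg (a' i l • ·) (hs l).symm).trans (pr'.map_smul _ _).symm)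
    choose μ hμ using fun i => hker W₂ _ (h0 i)
    refine ⟨p, s, a', μ, fun i => ?_, fun j l => ?_⟩
    · rw [hμ]
      exact (sub_add_cancel _ _).symm
    · have h := congrArg (O_D.obj.map r'.op).hom (ha j (Finset.mem_univ j) l)
      rw [map_sum, map_zero] at h
      refine Eq.trans (Finset.sum_congr rfl fun i _ => ?_) h
      rw [op_comp, Functor.map_comp, map_mul]
      rfl
  obtain ⟨R, hR, hR'⟩ := hcov
  refine (loc_lift f.fn k hR).mono ?_
  rintro U' g ⟨W', r, k', hr, hk'⟩
  obtain ⟨p, s, a, μ, hμ, ha⟩ := hR' r hr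
  let prM : ModSite.sect M W' →ₗ[O_D.obj.obj (op W')] ModSite.sect N W' := (φ.val.app (op W')).hom
  let b : Fin c.support.card → ModSite.sect N W → O_D.obj.obj (op W') := fun j n => (O_D.obj.map r.op).hom (e j n)
  have hM0 : ∀ j, ∑ m ∈ x.support, b j (P m) • ModSiteFlat.rmap M r m = -∑ i, b j (y i) • μ i := by
    intro j
    refine eq_neg_of_add_eq_zero_left (hφ W' ?_)
    refine Eq.trans ?_ (map_zero prM).symm
    change prM _ = 0
    rw [map_add, map_sum, map_sum]
    have h1 : ∑ n ∈ A, b j n • ModSiteFlat.rmap N r n = 0 := by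
      have := congrArg (ModSiteFlat.rmap N r) (he j)
      rw [map_sum, map_zero] at this
      exact (Finset.sum_congr rfl fun n _ => (ModSiteFlat.rmap_smul N r _ _).symm).trans this
    rw [← Finset.sum_sdiff (Finset.subset_union_left : S₀ ⊆ A), add_comm] at h1
    refine Eq.trans (congrArg₂ (· + ·) ?_ ?_) h1
    · rw [Finset.sum_image (g := P) (fun a _ b _ h => hφ W h)]
      refine Finset.sum_congr rfl fun m _ => ?_
      exact (prM.map_smul _ _).trans (congrArg (b j (P m) • ·) (PresheafOfModules.naturality_apply φ.val r.op m))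
    · rw [← hy fun n => b j n • ModSiteFlat.rmap N r n]
      have h3 : ∑ i, b j (y i) • ∑ l, a i l • s l = 0 := by
        simp only [Finset.smul_sum, smul_smul]
        refine Finset.sum_comm.trans (Finset.sum_eq_zero fun l _ => ?_)
        exact Finset.sum_smul.symm.trans ((congrArg (· • s l) (ha j l)).trans (zero_smul _ _))
      refine Eq.trans ?_ (Finset.sum_congr rfl fun i _ => congrArg (b j (y i) • ·) (hμ i).symm)
      refine Eq.trans ?_ (Finset.sum_congr rfl fun i _ => (smul_add (b j (y i)) (prM (μ i)) _).symm)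
      rw [Finset.sum_add_distrib, h3, add_zero]
      exact Finset.sum_congr rfl fun i _ => prM.map_smul _ _
  have h2 : (show (PQ f M).obj (op U') from (PQ f M).map g.op (evW k x)) =
      ∑ m ∈ x.support, (O_C.obj.map g.op).hom (x m) • gev f M (⟨W', k', ModSiteFlat.rmap M r m⟩ : Idx f M U') := by
    rw [← evW_resV k g r k' hk']
    conv_lhs => rw [← x.sum_single]
    simp only [Finsupp.sum, map_sum]
    refine Finset.sum_congr rfl fun m _ => ?_
    simp only [resV, LinearMap.coe_mk, AddHom.coe_mk, Finsupp.mapRange_single, Finsupp.mapDomain_single, evW,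
      Finsupp.linearCombination_single]
  rw [h2]
  let d : Fin c.support.card → O_C.obj.obj (op U') := fun j => (O_C.obj.map g.op).hom (c (E.symm j).1)
  have hres : ∀ n, (O_C.obj.map g.op).hom (Finsupp.mapDomain P x n) = ∑ j, d j * sc f k' (b j n) := fun n => by
    rw [hcn, map_sum]
    refine Finset.sum_congr rfl fun j _ => ?_
    simp only [b, d, map_mul]
    rw [sc_res, ← sc_comp, hk', mul_comm]
  have hx0 : ∀ i, ∑ j, d j * sc f k' (b j (y i)) = 0 := fun i => by
    rw [← hres, Finsupp.notMem_support_iff.1 fun h => (Finset.mem_sdiff.1 (T.symm i).2).2 (Finsupp.mapDomain_support h),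
      map_zero]
  have hcoef : ∀ m, (O_C.obj.map g.op).hom (x m) = ∑ j, d j * sc f k' (b j (P m)) := fun m => by
    rw [← hres, Finsupp.mapDomain_apply (hφ W)]
  simp only [hcoef, Finset.sum_smul, mul_smul]
  rw [Finset.sum_comm]
  refine Eq.trans (Finset.sum_congr rfl fun j _ => ?_) ?_ (b := ∑ j, d j • gev f M (⟨W', k', -∑ i, b j (y i) • μ i⟩ : Idx f M U'))
  · rw [← Finset.smul_sum, ← gev_sum_smul, hM0 j]
  simp only [← neg_smul, ← Finset.sum_neg_distrib, gev_sum_smul, Finset.smul_sum, smul_smul, map_neg, mul_neg]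
  rw [Finset.sum_comm]
  refine Finset.sum_eq_zero fun i _ => ?_
  rw [← Finset.sum_smul, Finset.sum_neg_distrib, hx0 i, neg_zero, zero_smul]

omit [PreservesFiniteLimits (pb J K f.fn)] in
theorem pull_shortExact_of_flat (f : ModSite.RMor O_C O_D) (S : ShortComplex (ModSite.Mod O_D)) (hS : S.ShortExact)
    (hH : ModSite.IsFlat S.X₃) : (S.map f.pull).ShortExact := by
  haveI : PreservesFiniteLimits (pb J K f.fn) := f.exact
  haveI := hS.epi_g
  haveI := hS.mono_f
  haveI : f.pull.IsLeftAdjoint := f.adj.isLeftAdjoint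
  haveI : PreservesColimitsOfSize.{0, 0} f.pull := f.adj.leftAdjoint_preservesColimits
  have hinj : ∀ W, Function.Injective (S.f.val.app (op W)) := fun W => by
    haveI : Mono S.f.val := (SheafOfModules.forget (ModSite.ringSh O_D)).map_mono S.f
    exact PresheafOfModules.injective_of_mono S.f.val (op W)
  have hzero : ∀ W m, S.g.val.app (op W) (S.f.val.app (op W) m) = 0 := fun W m =>
    ConcreteCategory.congr_hom (congrArg (fun τ : S.X₁ ⟶ S.X₃ => τ.val.app (op W)) S.zero) m
  have hker : ∀ W n, S.g.val.app (op W) n = 0 → ∃ m, S.f.val.app (op W) m = n := fun W => by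
    haveI : (SheafOfModules.evaluation.{u} (ModSite.ringSh O_D) (op W)).Additive := {}
    exact (ShortComplex.moduleCat_exact_iff _).1 (hS.exact.map_of_mono_of_preservesKernel
      (SheafOfModules.evaluation.{u} (ModSite.ringSh O_D) (op W)) hS.mono_f inferInstance)
  have hb : Presheaf.IsLocallyInjective J ((PresheafOfModules.toPresheaf _).map (pqMap (f := f) S.f)) :=
    pqMap_locallyInjective_of S.f fun k x hx => evW_loc_zero_of_flat S.f S.g (ModSiteFlat.hasLocalTriv_of_isFlat hH) hinj hzero hker k x hx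
  rw [← Presheaf.isLocallyInjective_presheafToSheaf_map_iff] at hb
  haveI : Mono ((SheafOfModules.toSheaf.{u} (ModSite.ringSh O_C)).map ((ModSiteExt.Sh O_C).map (pqMap (f := f) S.f))) :=
    Sheaf.mono_of_isLocallyInjective ((presheafToSheaf J AddCommGrpCat.{u}).map
      ((PresheafOfModules.toPresheaf _).map (pqMap (f := f) S.f)))
  haveI : Mono ((ModSiteExt.Sh O_C).map (pqMap (f := f) S.f)) :=
    (SheafOfModules.toSheaf.{u} (ModSite.ringSh O_C)).mono_of_mono_map (f := (ModSiteExt.Sh O_C).map (pqMap (f := f) S.f)) this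
  let i := SheafOfModules.pullbackIso.{u} f.sharpR
  haveI : Mono (f.pull.map S.f) := by
    have : f.pull.map S.f = i.hom.app S.X₁ ≫ (ModSiteExt.Sh O_C).map (pqMap (f := f) S.f) ≫ i.inv.app S.X₂ := by
      have h := i.hom.naturality S.f
      erw [← reassoc_of% h]
      simp
    rw [this]
    infer_instance
  haveI : Mono (S.map f.pull).f := ‹Mono (f.pull.map S.f)›
  haveI : Epi (f.pull.map S.g) := f.pull.map_epi S.g
  haveI : Epi (S.map f.pull).g := this
  exact { exact := hS.exact.map_of_epi_of_preservesCokernel f.pull hS.epi_g inferInstance }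

end Groth.Agent.PullFlat
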