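import Groth.Agent.PullFlat.Unit
import Mathlib.CategoryTheory.Sites.Over

/-!
The functor between slice sites induced by a morphism of ringed sites is continuous.
-/

set_option backward.isDefEq.respectTransparency false
set_option backward.isDefEq.respectTransparency.types false
set_option autoImplicit false

universe u

namespace Groth.Agent.PullFlat

open CategoryTheory Limits Opposite

variable {C D : Type u} [SmallCategory C] [SmallCategory D] {J : GrothendieckTopology C} {K : GrothendieckTopology D}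
  (fn : D ⥤ C) [fn.IsContinuous K J] [PreservesFiniteLimits (pb J K fn)]

include K in
/-- two maps into images over a common image lift locally to one -/
lemma loc_pair_over {U : C} {V V₁ V₂ : D} (a : U ⟶ fn.obj V₁) (b : U ⟶ fn.obj V₂) (q₁ : V₁ ⟶ V) (q₂ : V₂ ⟶ V)
    (h : a ≫ fn.map q₁ = b ≫ fn.map q₂) :
    Loc J U fun U' g => ∃ (W : D) (k : U' ⟶ fn.obj W) (l₁ : W ⟶ V₁) (l₂ : W ⟶ V₂),
      k ≫ fn.map l₁ = g ≫ a ∧ k ≫ fn.map l₂ = g ≫ b ∧ l₁ ≫ q₁ = l₂ ≫ q₂ := by
  refine (loc_pair (K := K) fn a b).bind ?_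
  rintro U' g ⟨W, k, l₁, l₂, h₁, h₂⟩
  refine (loc_equalizer (K := K) fn (l₁ ≫ q₁) (l₂ ≫ q₂) k ?_).mono ?_
  · rw [Functor.map_comp, Functor.map_comp, reassoc_of% h₁, reassoc_of% h₂, h]
  · rintro U'' g' ⟨W', l, k', hk', hl⟩
    refine ⟨W', k', l ≫ l₁, l ≫ l₂, ?_, ?_, by simpa using hl⟩
    · rw [Functor.map_comp, reassoc_of% hk', h₁, Category.assoc]
    · rw [Functor.map_comp, reassoc_of% hk', h₂, Category.assoc]

include K in
/-- the functor of slices preserves compatible families -/
lemma compatiblePreserving_post (V : D) :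
    CompatiblePreserving.{u} (J.over (fn.obj V)) (Over.post (X := V) fn) where
  compatible ℱ Z T x hx Y₁ Y₂ X f₁ f₂ g₁ g₂ hg₁ hg₂ h := by
    have hh : f₁.left ≫ fn.map g₁.left = f₂.left ≫ fn.map g₂.left := congrArg CommaMorphism.left h
    obtain ⟨S, hS, hS'⟩ := loc_pair_over (J := J) (K := K) fn f₁.left f₂.left g₁.left g₂.left hh
    refine (((isSheaf_iff_isSheaf_of_type _ _).1 ℱ.2) _ (J.overEquiv_symm_mem_over X S hS)).isSeparatedFor.ext
      fun X' t ht => ?_
    obtain ⟨W, k, l₁, l₂, h₁, h₂, hl⟩ := hS' t.left ((Sieve.overEquiv_symm_iff S t).1 ht)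
    let Y : Over V := Over.mk (l₁ ≫ Y₁.hom)
    let m₁ : Y ⟶ Y₁ := Over.homMk l₁
    let m₂ : Y ⟶ Y₂ := Over.homMk l₂ (by
      change l₂ ≫ Y₂.hom = l₁ ≫ Y₁.hom
      rw [← Over.w g₁, ← Over.w g₂, reassoc_of% hl])
    have e : ℱ.obj.map ((Over.post (X := V) fn).map m₁).op (x g₁ hg₁) =
        ℱ.obj.map ((Over.post (X := V) fn).map m₂).op (x g₂ hg₂) :=
      hx m₁ m₂ hg₁ hg₂ (Over.OverMorphism.ext hl)
    let k' : X' ⟶ (Over.post (X := V) fn).obj Y := Over.homMk k (by
      change k ≫ fn.map (l₁ ≫ Y₁.hom) = X'.hom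
      rw [fn.map_comp, reassoc_of% h₁]
      exact (congrArg (t.left ≫ ·) (Over.w f₁)).trans (Over.w t))
    have e₁ : k' ≫ (Over.post (X := V) fn).map m₁ = t ≫ f₁ := Over.OverMorphism.ext h₁
    have e₂ : k' ≫ (Over.post (X := V) fn).map m₂ = t ≫ f₂ := Over.OverMorphism.ext h₂
    have := congrArg (ℱ.obj.map k'.op) e
    simp only [← Functor.map_comp_apply, ← op_comp] at this
    rw [e₁, e₂] at this
    simpa only [op_comp, Functor.map_comp_apply] using this

include K in
theorem isContinuous_post (V : D) :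
    (Over.post (X := V) fn).IsContinuous (K.over V) (J.over (fn.obj V)) :=
  Functor.isContinuous_of_coverPreserving (compatiblePreserving_post (K := K) fn V)
    (CoverPreserving.overPost V (CoverPreserving.of_isContinuous (F := fn) (J := K) (K := J)))

instance isContinuous_post_rmor {O_C : Sheaf J CommRingCat.{u}} {O_D : Sheaf K CommRingCat.{u}}
    (f : ModSite.RMor O_C O_D) (V : D) :
    (Over.post (X := V) f.fn).IsContinuous (K.over V) (J.over (f.fn.obj V)) :=
  have : PreservesFiniteLimits (pb J K f.fn) := f.exact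
  isContinuous_post f.fn V

end Groth.Agent.PullFlat
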