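import Groth.Agent.PullFlat.TensorIso

/-!
Naturality of `f^* M ⊗ f^* N ≅ f^*(M ⊗ N)` in the first variable; the adjunction isomorphism for internal homs.
-/

set_option backward.isDefEq.respectTransparency false
set_option backward.isDefEq.respectTransparency.types false
set_option linter.style.haveILetI false
set_option autoImplicit false
set_option maxHeartbeats 1000000

universe u

open CategoryTheory Category Limits Opposite TensorProduct

namespace Groth.Agent.PullFlat

attribute [local instance] ModSiteFlat.instModuleSect instModulePQ instModulePM'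

variable {C D : Type u} [SmallCategory C] [SmallCategory D] {J : GrothendieckTopology C} {K : GrothendieckTopology D}
variable {O_C : Sheaf J CommRingCat.{u}} {O_D : Sheaf K CommRingCat.{u}} (f : ModSite.RMor O_C O_D)
variable {M M' : ModSite.Mod O_D} (a : M ⟶ M') (N : ModSite.Mod O_D)

/-- the induced map of presheaf inverse images -/
noncomputable abbrev pqm : PQ f M ⟶ PQ f M' := (PresheafOfModules.pullback.{u} f.sharpR.hom).map a.val

/-- the induced map of tensor presheaves -/
noncomputable abbrev ptm : PTen M N ⟶ PTen M' N :=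
  MonoidalCategory.whiskerRight (C := ModSiteExt.PM O_D.obj) a.val N.val

/-- the induced map of tensor presheaves of inverse images -/
noncomputable abbrev qtm : QTen f M N ⟶ QTen f M' N :=
  MonoidalCategory.whiskerRight (C := ModSiteExt.PM O_C.obj) (pqm f a) (PQ f N)

lemma τT_natural : ptm a N ≫ τT f M' N =
    τT f M N ≫ (PresheafOfModules.pushforward.{u} f.sharpR.hom).map
      ((SheafOfModules.forget (ModSite.ringSh O_C)).map ((ModSiteExt.Sh O_C).map (qtm f a N))) := by
  refine PresheafOfModules.hom_ext fun V => ModuleCat.MonoidalCategory.tensor_ext fun m n => ?_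
  change (ModSiteTensor.η O_C (QTen f M' N)).app _ (ηQ f M' V.unop (a.val.app V m) ⊗ₜ ηQ f N V.unop n) =
    ((ModSiteExt.Sh O_C).map (qtm f a N)).val.app (op (f.fn.obj V.unop))
      ((ModSiteTensor.η O_C (QTen f M N)).app _ (ηQ f M V.unop m ⊗ₜ ηQ f N V.unop n))
  have h := congrArg (fun τ : QTen f M N ⟶ _ => τ.app (op (f.fn.obj V.unop)) (ηQ f M V.unop m ⊗ₜ ηQ f N V.unop n))
    ((PresheafOfModules.sheafificationAdjunction.{u} (R := ModSite.ringSh O_C)
      (𝟙 (ModSite.ringSh O_C).obj)).unit.naturality (qtm f a N))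
  refine Eq.trans ?_ h
  change _ = (ModSiteTensor.η O_C (QTen f M' N)).app _ ((qtm f a N).app _ (ηQ f M V.unop m ⊗ₜ ηQ f N V.unop n))
  refine congrArg _ ?_
  change ηQ f M' V.unop (a.val.app V m) ⊗ₜ ηQ f N V.unop n =
    (pqm f a).app _ (ηQ f M V.unop m) ⊗ₜ ηQ f N V.unop n
  refine congrArg (· ⊗ₜ ηQ f N V.unop n) ?_
  exact (congrArg (fun τ : M.val ⟶ _ => τ.app V m)
    ((PresheafOfModules.pullbackPushforwardAdjunction.{u} f.sharpR.hom).unit.naturality a.val))

variable [PreservesFiniteLimits (pb J K f.fn)]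

lemma pullTenEquiv_pre {G : ModSite.Mod O_C}
    (x : f.pull.obj ((ModSiteExt.Sh O_D).obj (PTen M' N)) ⟶ G) :
    pullTenEquiv f M N G (f.pull.map ((ModSiteExt.Sh O_D).map (ptm a N)) ≫ x) =
      ptm a N ≫ pullTenEquiv f M' N G x := by
  simp only [pullTenEquiv, Equiv.trans_apply]
  rw [Adjunction.homEquiv_naturality_left]
  exact Adjunction.homEquiv_naturality_left _ _ _

lemma tenCmp_natural : f.pull.map ((ModSiteExt.Sh O_D).map (ptm a N)) ≫ tenCmp f M' N =
    tenCmp f M N ≫ (ModSiteExt.Sh O_C).map (qtm f a N) := by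
  refine (pullTenEquiv f M N _).injective ?_
  refine (pullTenEquiv_pre f a N _).trans ?_
  refine Eq.trans ?_ (pullTenEquiv_comp f M N (G := tA f M N) (G' := tA f M' N) (tenCmp f M N) ((ModSiteExt.Sh O_C).map (qtm f a N))).symm
  refine (congrArg (ptm a N ≫ ·) ((pullTenEquiv f M' N _).apply_symm_apply _)).trans ?_
  refine (τT_natural f a N).trans ?_
  exact congrArg (· ≫ _) ((pullTenEquiv f M N _).apply_symm_apply _).symm

lemma pullTensorIso_natural :
    ((ModSite.tensorBi O_C).map (f.pull.map a)).app (f.pull.obj N) ≫ (pullTensorIso f M' N).hom =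
      (pullTensorIso f M N).hom ≫ f.pull.map (((ModSite.tensorBi O_D).map a).app N) := by
  let p := SheafOfModules.pullbackIso.{u} f.sharpR
  have hp : f.pull.map a ≫ p.hom.app M' = p.hom.app M ≫ (ModSiteExt.Sh O_C).map (pqm f a) :=
    p.hom.naturality a
  have e1 : ((ModSite.tensorBi O_C).map (f.pull.map a)).app (f.pull.obj N) ≫
      ((ModSite.tensorBi O_C).map (p.hom.app M')).app (f.pull.obj N) =
      ((ModSite.tensorBi O_C).map (p.hom.app M)).app (f.pull.obj N) ≫
      ((ModSite.tensorBi O_C).map ((ModSiteExt.Sh O_C).map (pqm f a))).app (f.pull.obj N) := by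
    rw [← NatTrans.comp_app, ← NatTrans.comp_app, ← Functor.map_comp, ← Functor.map_comp, hp]
  have e2 : ((ModSite.tensorBi O_C).map ((ModSiteExt.Sh O_C).map (pqm f a))).app (f.pull.obj N) ≫
      ((ModSite.tensorBi O_C).obj ((ModSiteExt.Sh O_C).obj (PQ f M'))).map (p.hom.app N) =
      ((ModSite.tensorBi O_C).obj ((ModSiteExt.Sh O_C).obj (PQ f M))).map (p.hom.app N) ≫
      ((ModSite.tensorBi O_C).map ((ModSiteExt.Sh O_C).map (pqm f a))).app ((ModSiteExt.Sh O_C).obj (PQ f N)) :=
    (((ModSite.tensorBi O_C).map _).naturality (p.hom.app N)).symm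
  have e3' : (ModSiteExt.Sh O_C).map (qtm f a N) ≫ (ModSiteTensor.sheafifyTensorIso O_C (PQ f M') (PQ f N)).hom =
      (ModSiteTensor.sheafifyTensorIso O_C (PQ f M) (PQ f N)).hom ≫
        ((ModSite.tensorBi O_C).map ((ModSiteExt.Sh O_C).map (pqm f a))).app ((ModSiteExt.Sh O_C).obj (PQ f N)) := by
    change (ModSiteExt.Sh O_C).map _ ≫ (ModSiteExt.Sh O_C).map _ =
      (ModSiteExt.Sh O_C).map _ ≫ (ModSiteExt.Sh O_C).map _
    rw [← Functor.map_comp, ← Functor.map_comp]
    refine congrArg _ ?_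
    rw [MonoidalCategory.whiskerRight_comp_tensorHom]
    refine Eq.trans ?_ (MonoidalCategory.tensorHom_comp_whiskerRight _ _ _).symm
    exact congrArg (fun t => MonoidalCategoryStruct.tensorHom t (ModSiteTensor.η O_C (PQ f N)))
      ((PresheafOfModules.sheafificationAdjunction.{u} (R := ModSite.ringSh O_C)
        (𝟙 (ModSite.ringSh O_C).obj)).unit.naturality (pqm f a))
  have e3 : ((ModSite.tensorBi O_C).map ((ModSiteExt.Sh O_C).map (pqm f a))).app ((ModSiteExt.Sh O_C).obj (PQ f N)) ≫
      (ModSiteTensor.sheafifyTensorIso O_C (PQ f M') (PQ f N)).inv =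
      (ModSiteTensor.sheafifyTensorIso O_C (PQ f M) (PQ f N)).inv ≫ (ModSiteExt.Sh O_C).map (qtm f a N) := by
    rw [Iso.comp_inv_eq, Category.assoc, Iso.eq_inv_comp]
    exact e3'.symm
  haveI := isIso_tenCmp f M N
  haveI := isIso_tenCmp f M' N
  have e4 : (ModSiteExt.Sh O_C).map (qtm f a N) ≫ inv (tenCmp f M' N) =
      inv (tenCmp f M N) ≫ f.pull.map (((ModSite.tensorBi O_D).map a).app N) := by
    rw [IsIso.comp_inv_eq, Category.assoc, IsIso.eq_inv_comp]
    exact (tenCmp_natural f a N).symm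
  simp only [pullTensorIso, Iso.trans_hom, Iso.app_hom, Functor.mapIso_hom, Iso.symm_hom, asIso_inv, Category.assoc]
  rw [reassoc_of% e1]
  erw [reassoc_of% e2, reassoc_of% e3]
  exact congrArg (_ ≫ ·) (congrArg (_ ≫ ·) (congrArg (_ ≫ ·) e4))

/-- `f^*(- ⊗ N) ≅ f^* - ⊗ f^* N` -/
noncomputable def pullTensorRightIso :
    f.pull ⋙ (ModSite.tensorBi O_C).flip.obj (f.pull.obj N) ≅
      (ModSite.tensorBi O_D).flip.obj N ⋙ f.pull :=
  NatIso.ofComponents (fun M => pullTensorIso f M N) fun a => pullTensorIso_natural f a N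

/-- `f_* Hom(f^* N, -) ≅ Hom(N, f_* -)` -/
noncomputable def pushSheafHomIso [ModSite.HasSheafHom (f.pull.obj N)] [ModSite.HasSheafHom N] :
    ModSite.sheafHom (f.pull.obj N) ⋙ f.push ≅ f.push ⋙ ModSite.sheafHom N :=
  (conjugateIsoEquiv ((ModSite.sheafHomAdj N).comp f.adj)
    (f.adj.comp (ModSite.sheafHomAdj (f.pull.obj N)))) (pullTensorRightIso f N) |>.symm

end Groth.Agent.PullFlat
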