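import Groth.Agent.PullFlat.Tensor
import Mathlib.Algebra.Category.ModuleCat.Sheaf.PullbackFree

/-!
Global sections are preserved by direct image along morphisms of ringed sites (the inverse image of the final
sheaf is final); consequently the inverse image of the unit module is the unit module.
-/

set_option backward.isDefEq.respectTransparency false
set_option backward.isDefEq.respectTransparency.types false
set_option autoImplicit false

universe u

namespace Groth.Agent.PullFlat

open CategoryTheory Limits Opposite
open Groth.Agent.ModSiteFlat (rmap rmap_comp)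

variable {C : Type u} [SmallCategory C] {J : GrothendieckTopology C} {O_C : Sheaf J CommRingCat.{u}}
  {D : Type u} [SmallCategory D] {K : GrothendieckTopology D} {O_D : Sheaf K CommRingCat.{u}}
  (f : ModSite.RMor O_C O_D)

/-- a global section of the source is a compatible family on images -/
lemma bijective_pushforwardSections_rmor (M : ModSite.Mod O_C) :
    Function.Bijective (SheafOfModules.pushforwardSections f.sharpR (M := M)) := by
  have : PreservesFiniteLimits (pb J K f.fn) := f.exact
  have hloc : ∀ U : C, Loc J U fun U' _ => ∃ W : D, Nonempty (U' ⟶ f.fn.obj W) := fun U =>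
    loc_nonempty (K := K) f.fn U
  refine ⟨fun s t hst => Subtype.ext (funext fun X => ?_), fun t => ?_⟩
  · refine sect_ext ((hloc X.unop).mono ?_)
    rintro U' g ⟨W, ⟨k⟩⟩
    have h : s.val (op (f.fn.obj W)) = t.val (op (f.fn.obj W)) := congrFun (congrArg Subtype.val hst) (op W)
    exact (s.property g.op).trans (((s.property k.op).symm.trans
      ((congrArg (rmap M k) h).trans (t.property k.op))).trans (t.property g.op).symm)
  · -- the value of the family at a map into an image
    let x : ∀ {U : C} {W : D}, (U ⟶ f.fn.obj W) → ModSite.sect M U := fun {U W} k => rmap M k (t.val (op W))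
    have hx : ∀ {U U' : C} {W : D} (k : U ⟶ f.fn.obj W) (v : U' ⟶ U), rmap M v (x k) = x (v ≫ k) :=
      fun k v => (rmap_comp M k v _).symm
    have hwd : ∀ {U : C} {W₁ W₂ : D} (k₁ : U ⟶ f.fn.obj W₁) (k₂ : U ⟶ f.fn.obj W₂), x k₁ = x k₂ :=
      fun {U W₁ W₂} k₁ k₂ => by
        refine sect_ext ((loc_pair (K := K) f.fn k₁ k₂).mono ?_)
        rintro U' g ⟨W, k, l₁, l₂, h₁, h₂⟩
        rw [hx, hx, ← h₁, ← h₂, ← hx, ← hx]
        change rmap M k (rmap M (f.fn.map l₁) _) = rmap M k (rmap M (f.fn.map l₂) _)
        exact congrArg _ ((t.property l₁.op).trans (t.property l₂.op).symm)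
    have hval : ∀ U : C, ∃ s : ModSite.sect M U, ∀ {U' : C} (g : U' ⟶ U) {W : D} (k : U' ⟶ f.fn.obj W),
        rmap M g s = x k := fun U => by
      obtain ⟨S, hS, hS'⟩ := hloc U
      let w : ∀ ⦃U' : C⦄ (g : U' ⟶ U), S g → ModSite.sect M U' := fun U' g hg =>
        x (hS' g hg).choose_spec.some
      obtain ⟨s, hs⟩ := sect_glue hS w (fun U₁ U₂ g hg v => (hx _ v).trans (hwd _ _))
      refine ⟨s, fun {U'} g {W} k => sect_ext ((Loc.of_mem (J.pullback_stable g hS)).mono fun U'' g' hg' => ?_)⟩
      rw [← rmap_comp, hs _ hg', hx]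
      exact hwd _ _
    choose s hs using hval
    refine ⟨PresheafOfModules.sectionsMk (fun X => s X.unop) fun {X Y} a => ?_, Subtype.ext (funext fun X => ?_)⟩
    · refine sect_ext ((hloc Y.unop).mono ?_)
      rintro U' g ⟨W, ⟨k⟩⟩
      change rmap M g (rmap M a.unop (s X.unop)) = rmap M g (s Y.unop)
      rw [← rmap_comp, hs _ _ k, hs _ _ k]
    · change s (f.fn.obj X.unop) = t.val X
      have h1 := hs _ (𝟙 (f.fn.obj X.unop)) (𝟙 (f.fn.obj X.unop))
      have e : ∀ m : ModSite.sect M (f.fn.obj X.unop), rmap M (𝟙 _) m = m := fun m =>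
        (congrArg (fun φ => φ m) (M.val.presheaf.map_id (op (f.fn.obj X.unop))) : _)
      rw [e] at h1
      refine h1.trans ?_
      exact e _

instance isIso_pullbackObjUnitToUnit : IsIso (SheafOfModules.pullbackObjUnitToUnit f.sharpR) := by
  rw [isIso_iff_coyoneda_map_bijective]
  intro M
  rw [← (f.adj.homEquiv _ _).bijective.of_comp_iff', ← (SheafOfModules.unitHomEquiv _).bijective.of_comp_iff']
  convert! (bijective_pushforwardSections_rmor f M).comp (SheafOfModules.unitHomEquiv _).bijective
  ext a : 1
  dsimp
  rw [SheafOfModules.pushforwardSections_unitHomEquiv, EmbeddingLike.apply_eq_iff_eq,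
    Adjunction.homEquiv_naturality_right,
    SheafOfModules.pullbackPushforwardAdjunction_homEquiv_pullbackObjUnitToUnit]

/-- the inverse image of a free module is free -/
noncomputable def pullFreeIsoR (I : Type u) :
    f.pull.obj (SheafOfModules.free (R := ModSite.ringSh O_D) I) ≅ SheafOfModules.free (R := ModSite.ringSh O_C) I :=
  (asIso (sigmaComparison f.pull _)).symm ≪≫
    Sigma.mapIso fun _ => asIso (SheafOfModules.pullbackObjUnitToUnit f.sharpR)

end Groth.Agent.PullFlat
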